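import Cfsg.Agent.Lib.Blocks.CentralChar
import Cfsg.Agent.Lib.Blk83.PairCount
import Cfsg.Agent.Lib.Char.Complete

/-!
# Central elements of the complex group algebra against irreducible characters
-/

set_option autoImplicit false

open scoped ComplexConjugate
open Cfsg CfsgLib.Blocks

namespace CfsgLib.DihBlocks

universe u

variable {G : Type u} [Group G] [Fintype G]

/-- A central element acts by its central character. -/
theorem sum_center_mul (φ : IrrCharacter G) (a : Subalgebra.center ℂ (MonoidAlgebra ℂ G)) (r : G) :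
    ∑ h : G, (a : MonoidAlgebra ℂ G).coeff h * (φ : G → ℂ) (r * h) =
      omega φ a * (φ : G → ℂ) r := by
  classical
  have h1 : (φ : G → ℂ) 1 ≠ 0 := CfsgLib.Char.IsIrrCharacter.apply_one_ne_zero φ.2
  have hN : (Fintype.card G : ℂ) ≠ 0 := Nat.cast_ne_zero.2 Fintype.card_ne_zero
  set S := ∑ h : G, (a : MonoidAlgebra ℂ G).coeff h * (φ : G → ℂ) (r * h) with hS
  have hx : ∀ x : G,
      ∑ h : G, (a : MonoidAlgebra ℂ G).coeff h * (φ : G → ℂ) (x * r * x⁻¹ * h) = S := by
    intro x
    refine (Fintype.sum_equiv (MulAut.conj x).toEquiv _ _ fun h => ?_).symm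
    simp only [MulEquiv.toEquiv_eq_coe, EquivLike.coe_coe, MulAut.conj_apply]
    rw [show x * r * x⁻¹ * (x * h * x⁻¹) = x * (r * h) * x⁻¹ by group,
      CfsgLib.Char.IsIrrCharacter.isClassFunction φ.2 (r * h) x,
      coeff_eq_of_isConj a.2 (isConj_iff.2 ⟨x, rfl⟩ : IsConj h (x * h * x⁻¹))]
  refine mul_left_cancel₀ (mul_ne_zero hN h1) ?_
  calc (Fintype.card G : ℂ) * (φ : G → ℂ) 1 * S
      = (∑ x : G, ∑ h : G, (a : MonoidAlgebra ℂ G).coeff h * (φ : G → ℂ) (x * r * x⁻¹ * h)) *
          (φ : G → ℂ) 1 := by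
        rw [Finset.sum_congr rfl fun x _ => hx x, Finset.sum_const, Finset.card_univ, nsmul_eq_mul]
        ring
    _ = ∑ h : G, (a : MonoidAlgebra ℂ G).coeff h *
          ((∑ x : G, (φ : G → ℂ) (x * r * x⁻¹ * h)) * (φ : G → ℂ) 1) := by
        rw [Finset.sum_comm, Finset.sum_mul]
        refine Finset.sum_congr rfl fun h _ => ?_
        rw [← Finset.mul_sum, mul_assoc]
    _ = _ := by
        rw [Finset.sum_congr rfl fun h _ => by rw [CfsgLib.Blk83.sum_conj_mul], omega_eq_sum]
        field_simp
        simp only [Finset.mul_sum]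
        exact Finset.sum_congr rfl fun h _ => by ring

/-- The coefficients of a central element through its central characters. -/
theorem coeff_center_eq_sum (a : Subalgebra.center ℂ (MonoidAlgebra ℂ G)) (g : G) :
    (Nat.card G : ℂ) * (a : MonoidAlgebra ℂ G).coeff g =
      ∑ χ : IrrCharacter G, omega χ a * ((χ : G → ℂ) 1 * (χ : G → ℂ) g⁻¹) := by
  classical
  symm
  calc ∑ χ : IrrCharacter G, omega χ a * ((χ : G → ℂ) 1 * (χ : G → ℂ) g⁻¹)
      = ∑ χ : IrrCharacter G, ∑ h : G,
          (a : MonoidAlgebra ℂ G).coeff h * ((χ : G → ℂ) h * conj ((χ : G → ℂ) g)) := by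
        refine Finset.sum_congr rfl fun χ _ => ?_
        rw [omega_eq_sum, CfsgLib.Char.IsIrrCharacter.apply_inv χ.2, ← mul_assoc,
          div_mul_cancel₀ _ (CfsgLib.Char.IsIrrCharacter.apply_one_ne_zero χ.2), Finset.sum_mul]
        exact Finset.sum_congr rfl fun h _ => mul_assoc _ _ _
    _ = ∑ h : G, (a : MonoidAlgebra ℂ G).coeff h *
          (if IsConj g h then (Nat.card (Subgroup.centralizer ({g} : Set G)) : ℂ) else 0) := by
        rw [Finset.sum_comm]
        refine Finset.sum_congr rfl fun h _ => ?_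
        rw [← Finset.mul_sum, CfsgLib.Char.sum_mul_conj]
        split_ifs with h1 h2 h2
        · obtain ⟨c, rfl⟩ := isConj_iff.1 h2
          congr 2
          have e1 := CfsgLib.Char.card_isConj_mul_card_centralizer g
          have e2 := CfsgLib.Char.card_isConj_mul_card_centralizer (c * g * c⁻¹)
          have e3 : Nat.card {y : G // IsConj (c * g * c⁻¹) y} = Nat.card {y : G // IsConj g y} :=
            Nat.card_congr (Equiv.subtypeEquivRight fun y =>
              ⟨fun h => h2.trans h, fun h => h2.symm.trans h⟩)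
          have hpos : 0 < Nat.card {y : G // IsConj g y} :=
            haveI : Nonempty {y : G // IsConj g y} := ⟨⟨g, IsConj.refl g⟩⟩; Nat.card_pos
          exact Nat.eq_of_mul_eq_mul_left hpos (by rw [e1]; rw [e3] at e2; exact e2)
        · exact absurd h1.symm h2
        · exact absurd h2.symm h1
        · rfl
    _ = _ := by
        simp only [mul_ite, mul_zero]
        rw [← Finset.sum_filter,
          Finset.sum_congr rfl (g := fun _ => (a : MonoidAlgebra ℂ G).coeff g *
            (Nat.card (Subgroup.centralizer ({g} : Set G)) : ℂ)) fun h hh => by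
            rw [coeff_eq_of_isConj a.2 (Finset.mem_filter.1 hh).2],
          Finset.sum_const, nsmul_eq_mul, ← Fintype.card_subtype, ← Nat.card_eq_fintype_card,
          ← CfsgLib.Char.card_isConj_mul_card_centralizer g]
        push_cast
        ring

end CfsgLib.DihBlocks
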