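import Cfsg.Agent.Lib.BlockRank.NilpotentAbelian
import Cfsg.Agent.Lib.BlockRank.SectionOrth
import Cfsg.Agent.Lib.Blocks.Pairs.Lift

/-!
# Columns of subsections at the identity

For a subsection `(u, f)`, with `f` a block idempotent of the centralizer of `u`, the value at one
of the block part of the translate of a character by `u` is a class-sum of the character against
the exact idempotent.  Subsections that are not fused have orthogonal columns, and all of them are
orthogonal to the regular elements: this bounds the rank of the block.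
-/

set_option autoImplicit false
set_option maxHeartbeats 800000

open scoped ComplexConjugate
open Cfsg CfsgLib.Blocks CfsgLib.Blocks.Pairs CfsgLib.BlockRank

namespace CfsgLib.DihBlocks

universe u

variable {G : Type u} [Group G] [Fintype G]

/-- The value of `χ` at `u * a`. -/
noncomputable def colVal (a : MonoidAlgebra ℂ G) (u : G) (χ : IrrCharacter G) : ℂ :=
  ∑ g : G, a.coeff g * (χ : G → ℂ) (u * g)

theorem colVal_conjA (a : MonoidAlgebra ℂ G) (t u : G) (χ : IrrCharacter G) :
    colVal (conjA t a) (t * u * t⁻¹) χ = colVal a u χ := by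
  refine (Fintype.sum_equiv (MulAut.conj t).toEquiv _ _ fun g => ?_).symm
  simp only [MulEquiv.toEquiv_eq_coe, EquivLike.coe_coe, MulAut.conj_apply, coeff_conjA]
  rw [show t * u * t⁻¹ * (t * g * t⁻¹) = t * (u * g) * t⁻¹ by group,
    CfsgLib.Char.IsIrrCharacter.isClassFunction χ.2 (u * g) t]
  congr 2
  group

variable {p : ℕ} [Fact p.Prime] {M : Ideal AlgInt} [M.IsMaximal]

open scoped Classical in
/-- The block of the centralizer of `u` with the idempotent `f`. -/
noncomputable def subBlock (M : Ideal AlgInt) [M.IsMaximal] (u : G)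
    (f : MonoidAlgebra (ResField M) G) :
    Set (IrrCharacter (Subgroup.centralizer ({u} : Set G))) :=
  if h : IsBlockIdem (Subgroup.centralizer ({u} : Set G)) f then
    Classical.choose (exists_eIn_eq h) else ∅

theorem subBlock_spec {u : G} {f : MonoidAlgebra (ResField M) G}
    (h : IsBlockIdem (Subgroup.centralizer ({u} : Set G)) f) :
    ∃ hb : IsPBlock M (subBlock M u f), eIn hb = f := by
  rw [subBlock, dif_pos h]
  exact Classical.choose_spec (exists_eIn_eq h)

/-- The column at one of the subsection `(u, f)`. -/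
noncomputable def colOf (M : Ideal AlgInt) [M.IsMaximal] (u : G)
    (f : MonoidAlgebra (ResField M) G) (χ : IrrCharacter G) : ℂ :=
  colVal (exactIn (Subgroup.centralizer ({u} : Set G)) (subBlock M u f)) u χ

omit [Fact p.Prime] [M.IsMaximal] in
theorem colVal_exactIn {u : G} [Fintype (Subgroup.centralizer ({u} : Set G))]
    (b : Set (IrrCharacter (Subgroup.centralizer ({u} : Set G)))) (χ : IrrCharacter G) :
    colVal (exactIn (Subgroup.centralizer ({u} : Set G)) b) u χ =
      blockPart b (fun c => (χ : G → ℂ) (u * (c : G))) 1 := by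
  classical
  haveI := Fintype.ofFinite b
  rw [colVal, ← Finset.sum_subset (Finset.subset_univ
      (Finset.univ.filter fun g => g ∈ Subgroup.centralizer ({u} : Set G)))
    (fun g _ hg => by
      have : g ∉ Subgroup.centralizer ({u} : Set G) := fun h =>
        hg (Finset.mem_filter.2 ⟨Finset.mem_univ _, h⟩)
      simp only [exactIn, coeff_ofFun, subgroupBlockCoeff, dif_neg this, zero_mul]),
    Finset.sum_subtype (Finset.univ.filter fun g => g ∈ Subgroup.centralizer ({u} : Set G))
      (p := fun g => g ∈ Subgroup.centralizer ({u} : Set G))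
      (F := (inferInstance : Fintype (Subgroup.centralizer ({u} : Set G)))) (fun g => by simp),
    blockPart_eq_projKer]
  refine Finset.sum_congr (Finset.ext fun c => by simp) fun c _ => ?_
  simp [exactIn, subgroupBlockCoeff, projKer, blockCoeff, finsum_mem_eq_toFinset_sum]

theorem colOf_eq_blockPart {u : G} [Fintype (Subgroup.centralizer ({u} : Set G))]
    {b : Set (IrrCharacter (Subgroup.centralizer ({u} : Set G)))} (hb : IsPBlock M b)
    (χ : IrrCharacter G) :
    colOf M u (eIn hb) χ = blockPart b (fun c => (χ : G → ℂ) (u * (c : G))) 1 := by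
  obtain ⟨hb', he⟩ := subBlock_spec (isBlockIdem_eIn hb)
  rw [colOf, eIn_injective hb' hb he, colVal_exactIn]

/-- An idempotent lifting the idempotent of a block is the exact one. -/
theorem eq_exactIn_of_rd {H : Subgroup G} {b : Set (IrrCharacter H)} (hb : IsPBlock M b)
    {a : MonoidAlgebra ℂ G} (ha : Loc M a) (hai : a * a = a) (hac : InCenter H a)
    (hrd : rd M a = eIn hb) : a = exactIn H b :=
  idem_ext ha (loc_exactIn hb) hai (exactIn_idem H b) (hac.mul_comm (inCenter_exactIn H b))
    (hrd.trans (rd_exactIn hb).symm)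

omit [Fintype G] in
theorem centralizer_conj_singleton (t u : G) :
    Subgroup.centralizer ({t * u * t⁻¹} : Set G) =
      conjSub t (Subgroup.centralizer ({u} : Set G)) := by
  ext y
  rw [mem_conjSub, Subgroup.mem_centralizer_singleton_iff, Subgroup.mem_centralizer_singleton_iff]
  constructor
  · intro h
    calc t⁻¹ * y * t * u = t⁻¹ * (y * (t * u * t⁻¹)) * t := by group
      _ = t⁻¹ * (t * u * t⁻¹ * y) * t := by rw [h]
      _ = u * (t⁻¹ * y * t) := by group
  · intro h
    calc y * (t * u * t⁻¹) = t * (t⁻¹ * y * t * u) * t⁻¹ := by group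
      _ = t * (u * (t⁻¹ * y * t)) * t⁻¹ := by rw [h]
      _ = t * u * t⁻¹ * y := by group

theorem colOf_conjA {u : G} {f : MonoidAlgebra (ResField M) G}
    (h : IsBlockIdem (Subgroup.centralizer ({u} : Set G)) f) (t : G) (χ : IrrCharacter G) :
    colOf M (t * u * t⁻¹) (conjA t f) χ = colOf M u f χ := by
  obtain ⟨hb, he⟩ := subBlock_spec h
  have h' : IsBlockIdem (Subgroup.centralizer ({t * u * t⁻¹} : Set G)) (conjA t f) := by
    rw [centralizer_conj_singleton]
    exact h.conj t
  obtain ⟨hb', he'⟩ := subBlock_spec h'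
  rw [colOf, colOf]
  have hH : InCenter (Subgroup.centralizer ({t * u * t⁻¹} : Set G))
      (conjA t (exactIn (Subgroup.centralizer ({u} : Set G)) (subBlock M u f))) := by
    rw [centralizer_conj_singleton]
    exact (inCenter_exactIn _ _).conj t
  rw [← eq_exactIn_of_rd hb' ((loc_exactIn hb).conjA t)
    (by rw [← conjA_mul, exactIn_idem]) hH
    (by rw [rd_conjA (loc_exactIn hb), rd_exactIn hb, he, he'])]
  exact colVal_conjA _ t u χ

omit [Fintype G] in
theorem exists_orderOf_of_isPGroup [Finite G] {u : G} (h : IsPGroup p (Subgroup.zpowers u)) :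
    ∃ k : ℕ, orderOf u = p ^ k := by
  obtain ⟨k, hk⟩ := IsPGroup.iff_card.1 h
  exact ⟨k, by rw [← Nat.card_zpowers, hk]⟩

variable [CharP (ResField M) p] {B : Set (IrrCharacter G)}

theorem isBlockIdem_of_pairOf {E f : MonoidAlgebra (ResField M) G} {u : G}
    (h : PairOf p E (Subgroup.zpowers u) f) :
    IsBlockIdem (Subgroup.centralizer ({u} : Set G)) f := by
  have h1 := h.pair.block
  rwa [Subgroup.zpowers_eq_closure, Subgroup.centralizer_closure] at h1

theorem exists_induced (hM : IsPModular p M) (hB : IsPBlock M B) {u : G}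
    {f : MonoidAlgebra (ResField M) G} (h : PairOf p (ebar hB) (Subgroup.zpowers u) f) :
    ∃ b : Set (IrrCharacter (Subgroup.centralizer ({u} : Set G))), ∃ hb : IsPBlock M b,
      eIn hb = f ∧ IsInducedBlock M (Subgroup.centralizer ({u} : Set G)) b B := by
  obtain ⟨b, hb, rfl⟩ := exists_eIn_eq (isBlockIdem_of_pairOf h)
  exact ⟨b, hb, rfl, (isInducedBlock_singleton_iff hM h.pair.pgroup hB hb).2 h⟩

/-- The column vanishes off the block. -/
theorem colOf_eq_zero (hM : IsPModular p M) (hB : IsPBlock M B) {u : G}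
    {f : MonoidAlgebra (ResField M) G} (h : PairOf p (ebar hB) (Subgroup.zpowers u) f)
    {χ : IrrCharacter G} (hχ : χ ∉ B) : colOf M u f χ = 0 := by
  classical
  obtain ⟨b, hb, rfl, hind⟩ := exists_induced hM hB h
  rw [colOf_eq_blockPart hb]
  exact blockPart_translate_eq_zero hM rfl (exists_orderOf_of_isPGroup h.pair.pgroup) hind hχ
    (by simp [IsPRegular, hM.1.ne_one])

/-- The norm of a column. -/
theorem sum_colOf_self (hM : IsPModular p M) (hB : IsPBlock M B) [Fintype B] {u : G}
    [Fintype (Subgroup.centralizer ({u} : Set G))]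
    {b : Set (IrrCharacter (Subgroup.centralizer ({u} : Set G)))} [Fintype b] (hb : IsPBlock M b)
    (h : PairOf p (ebar hB) (Subgroup.zpowers u) (eIn hb)) :
    ∑ χ ∈ B.toFinset, colOf M u (eIn hb) χ * conj (colOf M u (eIn hb) χ) =
      ((∑ φ ∈ b.toFinset,
        charDegree (φ : Subgroup.centralizer ({u} : Set G) → ℂ) ^ 2 : ℕ) : ℂ) := by
  have h1 : IsPRegular p (1 : Subgroup.centralizer ({u} : Set G)) := by
    simp [IsPRegular, hM.1.ne_one]
  simp only [colOf_eq_blockPart hb]
  rw [sum_blockPart_translate_mul_conj hM rfl (exists_orderOf_of_isPGroup h.pair.pgroup)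
    ((isInducedBlock_singleton_iff hM h.pair.pgroup hB hb).2 h) h1 h1, Nat.cast_sum]
  refine Finset.sum_congr rfl fun φ _ => ?_
  rw [Nat.cast_pow, CfsgLib.BlockReg.deg_cast, sq]
  congr 1
  rw [← CfsgLib.BlockReg.deg_cast, map_natCast]

theorem sum_colOf_self_ne_zero (hM : IsPModular p M) (hB : IsPBlock M B) [Fintype B] {u : G}
    {f : MonoidAlgebra (ResField M) G} (h : PairOf p (ebar hB) (Subgroup.zpowers u) f) :
    ∑ χ ∈ B.toFinset, colOf M u f χ * conj (colOf M u f χ) ≠ 0 := by
  classical
  obtain ⟨b, hb, rfl, -⟩ := exists_induced hM hB h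
  haveI := Fintype.ofFinite b
  rw [sum_colOf_self hM hB hb h, Nat.cast_ne_zero]
  obtain ⟨φ, hφ⟩ := CfsgLib.BlockReg.block_nonempty hM hb
  exact (Finset.sum_pos (fun θ _ => pow_pos (CfsgLib.BlockReg.deg_pos θ) 2)
    ⟨φ, Set.mem_toFinset.2 hφ⟩).ne'

/-- Subsections that are not fused have orthogonal columns. -/
theorem sum_colOf_mul_conj (hM : IsPModular p M) (hB : IsPBlock M B) [Fintype B] {u v : G}
    {f f' : MonoidAlgebra (ResField M) G} (h : PairOf p (ebar hB) (Subgroup.zpowers u) f)
    (h' : PairOf p (ebar hB) (Subgroup.zpowers v) f')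
    (hne : ∀ t : G, t * u * t⁻¹ = v → conjA t f ≠ f') :
    ∑ χ ∈ B.toFinset, colOf M u f χ * conj (colOf M v f' χ) = 0 := by
  classical
  obtain ⟨b', hb', rfl, hind'⟩ := exists_induced hM hB h'
  haveI := Fintype.ofFinite b'
  by_cases hc : IsConj u v
  · obtain ⟨t, ht⟩ := isConj_iff.1 hc
    subst ht
    simp only [← colOf_conjA (isBlockIdem_of_pairOf h) t]
    have h2 : PairOf p (ebar hB) (Subgroup.zpowers (t * u * t⁻¹)) (conjA t f) := by
      have := h.conj t
      rwa [conjSub_zpowers] at this
    obtain ⟨b, hb, hbe, hind⟩ := exists_induced hM hB h2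
    haveI := Fintype.ofFinite b
    rw [← hbe]
    simp only [colOf_eq_blockPart]
    refine sum_blockPart_ne hM rfl (exists_orderOf_of_isPGroup h'.pair.pgroup) hb' ?_ hind
      (by simp [IsPRegular, hM.1.ne_one]) (by simp [IsPRegular, hM.1.ne_one])
    intro hbb
    subst hbb
    exact hne t rfl hbe.symm
  · obtain ⟨b, hb, rfl, hind⟩ := exists_induced hM hB h
    haveI := Fintype.ofFinite b
    simp only [colOf_eq_blockPart]
    exact sum_blockPart_cross hM rfl (exists_orderOf_of_isPGroup h.pair.pgroup) rfl
      (exists_orderOf_of_isPGroup h'.pair.pgroup) hc hind hb'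
      (by simp [IsPRegular, hM.1.ne_one]) (by simp [IsPRegular, hM.1.ne_one])

/-- A column away from the identity is orthogonal to the regular elements. -/
theorem sum_colOf_mul_regular (hM : IsPModular p M) (hB : IsPBlock M B) [Fintype B] {u : G}
    {f : MonoidAlgebra (ResField M) G} (h : PairOf p (ebar hB) (Subgroup.zpowers u) f)
    (hu : u ≠ 1) {g : G} (hg : IsPRegular p g) :
    ∑ χ ∈ B.toFinset, colOf M u f χ * conj ((χ : G → ℂ) g) = 0 := by
  classical
  obtain ⟨b, hb, rfl, hind⟩ := exists_induced hM hB h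
  haveI := Fintype.ofFinite b
  simp only [colOf_eq_blockPart]
  exact sum_blockPart_regular hM rfl (exists_orderOf_of_isPGroup h.pair.pgroup) hu hind
    (by simp [IsPRegular, hM.1.ne_one]) hg

/-- The rank of a block and the number of its unfused nontrivial subsections. -/
theorem rank_add_le (hM : IsPModular p M) (hB : IsPBlock M B) {ι : Type*} [Fintype ι]
    (u : ι → G) (f : ι → MonoidAlgebra (ResField M) G) (hu : ∀ i, u i ≠ 1)
    (hpair : ∀ i, PairOf p (ebar hB) (Subgroup.zpowers (u i)) (f i))
    (hne : ∀ i j, i ≠ j → ∀ t : G, t * u i * t⁻¹ = u j → conjA t (f i) ≠ f j) :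
    blockRank p B + Fintype.card ι ≤ Nat.card B := by
  classical
  haveI := Fintype.ofFinite B
  let L : (B → ℂ) →ₗ[ℂ] (G → ℂ) :=
    Fintype.linearCombination ℂ fun χ : B => pRegularPart p ((χ : IrrCharacter G) : G → ℂ)
  let v : ι → B → ℂ := fun i χ => conj (colOf M (u i) (f i) χ)
  have hsub : ∀ F : IrrCharacter G → ℂ, ∑ χ : B, F χ = ∑ χ ∈ B.toFinset, F χ := fun F =>
    (Finset.sum_subtype B.toFinset (fun y => Set.mem_toFinset) F).symm
  have hker : ∀ i, v i ∈ LinearMap.ker L := by
    intro i
    rw [LinearMap.mem_ker]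
    funext g
    simp only [L, Fintype.linearCombination_apply, Finset.sum_apply, Pi.smul_apply, smul_eq_mul,
      Pi.zero_apply, pRegularPart_apply]
    by_cases hg : IsPRegular p g
    · simp only [if_pos hg, v]
      rw [hsub fun χ => conj (colOf M (u i) (f i) χ) * (χ : G → ℂ) g]
      have h0 := congrArg conj (sum_colOf_mul_regular hM hB (hpair i) (hu i) hg)
      simpa [map_sum, map_mul] using h0
    · simp [if_neg hg]
  have hli : LinearIndependent ℂ fun i : ι => (⟨v i, hker i⟩ : LinearMap.ker L) := by
    rw [Fintype.linearIndependent_iff]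
    intro c hc i
    have h0 := congrArg (fun w : LinearMap.ker L =>
      ∑ χ : B, (w : B → ℂ) χ * colOf M (u i) (f i) χ) hc
    simp only [AddSubmonoidClass.coe_finsetSum, SetLike.val_smul, Finset.sum_apply, Pi.smul_apply,
      smul_eq_mul, ZeroMemClass.coe_zero, Pi.zero_apply, zero_mul, Finset.sum_const_zero,
      Finset.sum_mul] at h0
    rw [Finset.sum_comm, Finset.sum_eq_single i] at h0
    · simp only [v, mul_assoc, ← Finset.mul_sum] at h0
      refine (mul_eq_zero.1 h0).resolve_right fun h1 => sum_colOf_self_ne_zero hM hB (hpair i) ?_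
      rw [← h1, hsub fun χ => conj (colOf M (u i) (f i) χ) * colOf M (u i) (f i) χ]
      exact Finset.sum_congr rfl fun χ _ => mul_comm _ _
    · intro j _ hji
      simp only [v, mul_assoc, ← Finset.mul_sum]
      rw [hsub fun χ => conj (colOf M (u j) (f j) χ) * colOf M (u i) (f i) χ,
        Finset.sum_congr rfl fun χ _ => mul_comm (conj (colOf M (u j) (f j) χ)) _,
        sum_colOf_mul_conj hM hB (hpair i) (hpair j) (hne i j (Ne.symm hji)), mul_zero]
    · simp
  have h1 := hli.fintype_card_le_finrank
  have h2 := LinearMap.finrank_range_add_finrank_ker L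
  have h3 : Module.finrank ℂ (LinearMap.range L) = blockRank p B := by
    rw [Cfsg.blockRank, Fintype.range_linearCombination, Set.image_eq_range]
  rw [Module.finrank_fintype_fun_eq_card, h3, ← Nat.card_eq_fintype_card] at h2
  omega

end CfsgLib.DihBlocks
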