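import Cfsg.Agent.Lib.DihedralBlocks.Trace

/-!
# A congruence between products of four values of the top column
-/

set_option autoImplicit false
set_option maxHeartbeats 1600000
set_option synthInstance.maxHeartbeats 400000

open scoped ComplexConjugate Classical
open Cfsg CfsgLib.Blocks CfsgLib.Blocks.Pairs CfsgLib.BlockRank CfsgLib.BlockReg Polynomial

namespace CfsgLib.DihBlocks

universe u

variable {G : Type u} [Group G] [Fintype G] {M : Ideal AlgInt} [M.IsMaximal]

theorem loc_single (g : G) : Loc M (MonoidAlgebra.single g (1 : ℂ)) := by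
  intro y
  rw [MonoidAlgebra.coeff_single, Finsupp.single_apply]
  split_ifs
  · exact (locRing M).one_mem
  · exact (locRing M).zero_mem

theorem rd_single (g : G) :
    rd M (MonoidAlgebra.single g (1 : ℂ)) = MonoidAlgebra.single g (1 : ResField M) := by
  ext y
  rw [coeff_rd (loc_single g)]
  have key : (⟨(MonoidAlgebra.single g (1 : ℂ)).coeff y, loc_single g y⟩ : locRing M) =
      if g = y then 1 else 0 := by
    refine Subtype.ext ?_
    split_ifs with hy <;> simp [hy, Finsupp.single_apply]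
  rw [key, MonoidAlgebra.coeff_single, Finsupp.single_apply]
  split_ifs <;> simp

theorem rd_traceTo (K : Subgroup G) {a : MonoidAlgebra ℂ G} (ha : Loc M a) :
    rd M (traceTo K a) = traceTo K (rd M a) := by
  rw [traceTo, rd_sum fun t => ha.conjA _]
  exact Finset.sum_congr rfl fun t _ => rd_conjA ha _

/-- The central character of a trace. -/
theorem omega_traceTo {K : Subgroup G} (a : MonoidAlgebra ℂ G)
    (z : Subalgebra.center ℂ (MonoidAlgebra ℂ G))
    (hz : (z : MonoidAlgebra ℂ G) = traceTo K a) (χ : IrrCharacter G) :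
    omega χ z = (K.index : ℂ) * (∑ g, a.coeff g * (χ : G → ℂ) g) / (χ : G → ℂ) 1 := by
  rw [omega_eq_sum, hz, traceTo]
  congr 1
  simp only [MonoidAlgebra.coeff_sum, Finsupp.finsetSum_apply, Finset.sum_mul]
  rw [Finset.sum_comm, Subgroup.index, Nat.card_eq_fintype_card, ← nsmul_eq_mul, ← Finset.card_univ,
    ← Finset.sum_const]
  refine Finset.sum_congr rfl fun t _ => ?_
  refine (Fintype.sum_equiv (MulAut.conj t.out).toEquiv _ _ fun g => ?_).symm
  simp only [MulEquiv.toEquiv_eq_coe, EquivLike.coe_coe, MulAut.conj_apply, coeff_conjA]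
  rw [CfsgLib.Char.IsIrrCharacter.isClassFunction χ.2 g t.out]
  congr 2
  group

variable [CharP (ResField M) 2] {D : Subgroup G} {x s : G} {q : ℕ}
  {e : MonoidAlgebra (ResField M) G} {B : Set (IrrCharacter G)} {ζ : ℂ}

/-- The elements `x ^ a` times the local idempotent, at the coset of `x`. -/
theorem coeff_zpow_mul (hM : IsPModular 2 M) (h : Dih D x s q)
    (T : TopData M B (below D e x) x q ζ) {r : Subgroup.centralizer ({x} : Set G)}
    (hr : IsPRegular 2 r) (a : ℤ) :
    (MonoidAlgebra.single (x ^ a) (1 : ResField M) * below D e x).coeff (x * (r : G)) =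
      if ((2 * q : ℕ) : ℤ) ∣ 1 - a then (below D e x).coeff (r : G) else 0 := by
  rw [coeff_single_mul, ← mul_assoc,
    show (x ^ a)⁻¹ * x = x ^ (1 - a) by rw [zpow_sub, zpow_one, ← zpow_neg, zpow_neg]; group]
  split_ifs with hdvd
  · rw [← h.order] at hdvd
    rw [orderOf_dvd_iff_zpow_eq_one.1 hdvd, one_mul]
  · have hxK : x ∈ Subgroup.centralizer ({x} : Set G) :=
      Subgroup.mem_centralizer_singleton_iff.2 rfl
    have hmem : x ^ (1 - a) * (r : G) ∈ Subgroup.centralizer ({x} : Set G) :=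
      mul_mem (zpow_mem hxK _) r.2
    rw [← T.eIn_eq, coeff_eIn, ← map_zero (red M)]
    refine congrArg (red M) (Subtype.ext ?_)
    show subgroupBlockCoeff _ T.blk _ = 0
    rw [subgroupBlockCoeff, dif_pos hmem]
    refine CfsgLib.BlockReg.blockCoeff_singular hM T.isBlock _ ?_
    rw [Subgroup.orderOf_mk]
    have hne : x ^ (1 - a) ≠ 1 := fun h1 => hdvd (by
      rw [← h.order]; exact orderOf_dvd_iff_zpow_eq_one.2 h1)
    obtain ⟨k, hk⟩ := IsPGroup.iff_orderOf.1 h.isPGroup
      ⟨x ^ (1 - a), Subgroup.zpow_mem_zpowers x _⟩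
    rw [Subgroup.orderOf_mk] at hk
    have hk0 : k ≠ 0 := by
      rintro rfl
      exact hne (orderOf_eq_one_iff.1 (by simpa using hk))
    have hco : Nat.Coprime (orderOf (x ^ (1 - a))) (orderOf (r : G)) := by
      rw [hk, Subgroup.orderOf_coe]
      exact Nat.Coprime.pow_left k (Nat.prime_two.coprime_iff_not_dvd.2 hr)
    have hcomm : Commute (x ^ (1 - a)) (r : G) :=
      (Commute.zpow_left (Subgroup.mem_centralizer_singleton_iff.1 r.2 : Commute (r : G) x).symm _)
    rw [hcomm.orderOf_mul_eq_mul_orderOf_of_coprime hco, hk]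
    exact Dvd.dvd.mul_right (dvd_pow_self 2 hk0) _

/-- Products of four values of the column. -/
theorem key_congr (hM : IsPModular 2 M) (hB : IsPBlock M B) [Fintype B] (h : Dih D x s q)
    (hP : PairOf 2 (ebar hB) D e) (hno : NoExt 2 D e) (hζ : IsPrimitiveRoot ζ (2 * q))
    (T : TopData M B (below D e x) x q ζ) (hq4 : 4 ≤ q) {t : ℕ} (ht : t < q / 2)
    {r : Subgroup.centralizer ({x} : Set G)} (hr : IsPRegular 2 r) :
    MemLocalIdeal M (blockCoeff T.blk r *
      (((((Subgroup.centralizer ({x} : Set G)).index * T.deg : ℕ) : ℂ) ^ 2 / (2 * q : ℕ)) *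
          ∑ χ ∈ B.toFinset, topVal T χ 0 ^ 3 * topVal T χ t / (χ : G → ℂ) 1 ^ 2 -
        if t ≤ 1 then 1 else 0)) := by
  have hKC := centralizer_zpowers_eq x
  have hblk : IsBlockIdem (Subgroup.centralizer ({x} : Set G)) (below D e x) :=
    isBlockIdem_of_pairOf (pairOf_below hP h.mem_x)
  have hcen : ∀ j : ℕ, InCenter (Subgroup.centralizer ({x} : Set G))
      (MonoidAlgebra.single (x ^ j) (1 : ℂ)) := fun j =>
    inCenter_single (pow_mem (Subgroup.mem_centralizer_singleton_iff.2 rfl) j) fun k hk =>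
      (Commute.pow_right (Subgroup.mem_centralizer_singleton_iff.1 hk : Commute k x) j)
  set ê := exactIn (Subgroup.centralizer ({x} : Set G)) T.blk with hê
  have hloce : Loc M ê := loc_exactIn T.isBlock
  let y : ℕ → MonoidAlgebra ℂ G := fun j => MonoidAlgebra.single (x ^ j) (1 : ℂ) * ê
  have hyloc : ∀ j, Loc M (y j) := fun j => (loc_single _).mul hloce
  have hyc : ∀ j, InCenter (Subgroup.centralizer ({x} : Set G)) (y j) := fun j =>
    (hcen j).mul (inCenter_exactIn _ _)
  let f : ℕ → Subalgebra.center ℂ (MonoidAlgebra ℂ G) := fun j =>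
    ⟨traceTo (Subgroup.centralizer ({x} : Set G)) (y j),
      inCenter_top_iff.mp (inCenter_traceTo (hyc j).fixed)⟩
  have hloc : ∀ j, Loc M ((f j : Subalgebra.center ℂ (MonoidAlgebra ℂ G)) : MonoidAlgebra ℂ G) :=
    fun j => Loc.sum fun t _ => (hyloc j).conjA _
  have h1reg : IsPRegular 2 (1 : Subgroup.centralizer ({x} : Set G)) := by simp [IsPRegular]
  have homega : ∀ (χ : IrrCharacter G) (i : ℕ), omega χ (f (2 * i + 1)) =
      ((((Subgroup.centralizer ({x} : Set G)).index * T.deg : ℕ) : ℂ)) * topVal T χ i /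
        (χ : G → ℂ) 1 := by
    intro χ i
    rw [omega_traceTo (y (2 * i + 1)) _ rfl χ]
    have hsum : ∑ g, (y (2 * i + 1)).coeff g * (χ : G → ℂ) g =
        colVal ê (x ^ (2 * i + 1)) χ := by
      rw [colVal]
      refine (Fintype.sum_equiv (Equiv.mulLeft (x ^ (2 * i + 1))) _ _ fun g => ?_).symm
      simp only [Equiv.coe_mulLeft, y, coeff_single_mul, inv_mul_cancel_left]
    have h2 := T.shifted χ (2 * i + 1) 1 h1reg
    rw [OneMemClass.coe_one, mul_one, T.brauer_one] at h2
    rw [hsum, h2, topVal]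
    push_cast
    ring
  set Z := f (2 * 0 + 1) * f (2 * 0 + 1) * f (2 * t + 1) with hZ
  have hZv : (Z : MonoidAlgebra ℂ G) = ((f (2 * 0 + 1) : Subalgebra.center ℂ _) : MonoidAlgebra ℂ G)
      * (f (2 * 0 + 1) : Subalgebra.center ℂ _) * (f (2 * t + 1) : Subalgebra.center ℂ _) := rfl
  have hlocZ : Loc M ((Z : MonoidAlgebra ℂ G) * ê) :=
    (((hloc _).mul (hloc _)).mul (hloc _)).mul hloce
  -- the value over the complex numbers
  have hK0 : (Nat.card (Subgroup.centralizer ({x} : Set G)) : ℂ) ≠ 0 :=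
    Nat.cast_ne_zero.2 Nat.card_pos.ne'
  have hI0 : ((Subgroup.centralizer ({x} : Set G)).index : ℂ) ≠ 0 :=
    Nat.cast_ne_zero.2 Subgroup.index_ne_zero_of_finite
  have hq0 : ((2 * q : ℕ) : ℂ) ≠ 0 := Nat.cast_ne_zero.2 (by omega)
  have hd0 : (T.deg : ℂ) ≠ 0 := Nat.cast_ne_zero.2 T.deg_pos.ne'
  have hG0 : (Nat.card G : ℂ) ≠ 0 := Nat.cast_ne_zero.2 Nat.card_pos.ne'
  have hval : ((Z : MonoidAlgebra ℂ G) * ê).coeff (x * (r : G)) = blockCoeff T.blk r *
      (((((Subgroup.centralizer ({x} : Set G)).index * T.deg : ℕ) : ℂ) ^ 2 / (2 * q : ℕ)) *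
        ∑ χ ∈ B.toFinset, topVal T χ 0 ^ 3 * topVal T χ t / (χ : G → ℂ) 1 ^ 2) := by
    have hpow : (x * (r : G))⁻¹ = x ^ (2 * (q - 1) + 1) * ((r⁻¹ : _) : G) := by
      have hc : Commute x (r : G) :=
        (Subgroup.mem_centralizer_singleton_iff.1 r.2 : Commute (r : G) x).symm
      have hx : x⁻¹ = x ^ (2 * (q - 1) + 1) := inv_eq_of_mul_eq_one_right (by
        rw [← pow_succ', show 2 * (q - 1) + 1 + 1 = 2 * q by omega, ← h.order, pow_orderOf_eq_one])
      rw [InvMemClass.coe_inv, ← hx, mul_inv_rev]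
      exact (hc.inv_inv).symm.eq
    have hrinv : IsPRegular 2 r⁻¹ := (isPRegular_inv r).2 hr
    have hsh : ∀ χ : IrrCharacter G, colVal ê (x * (r : G))⁻¹ χ =
        topVal T χ 0 * conj (T.brauer r) := by
      intro χ
      rw [hpow, T.shifted χ _ r⁻¹ hrinv, T.brauer_inv, ← topVal_reflect hB h hP T χ (t := 0)
        (by omega), topVal, Nat.sub_zero]
    refine mul_left_cancel₀ hG0 ?_
    calc (Nat.card G : ℂ) * ((Z : MonoidAlgebra ℂ G) * ê).coeff (x * (r : G))
        = ∑ g : G, ((Nat.card G : ℂ) * (Z : MonoidAlgebra ℂ G).coeff g) *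
            ê.coeff (g⁻¹ * (x * (r : G))) := by
          rw [coeff_mul_group, Finset.mul_sum]
          exact Finset.sum_congr rfl fun g _ => (mul_assoc _ _ _).symm
      _ = ∑ χ : IrrCharacter G, omega χ Z * (χ : G → ℂ) 1 * colVal ê (x * (r : G))⁻¹ χ := by
          simp only [coeff_center_eq_sum, Finset.sum_mul]
          rw [Finset.sum_comm]
          refine Finset.sum_congr rfl fun χ _ => ?_
          rw [colVal, Finset.mul_sum]
          refine Fintype.sum_equiv ((Equiv.inv G).trans (Equiv.mulRight (x * (r : G)))) _ _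
            fun g => ?_
          simp only [Equiv.trans_apply, Equiv.inv_apply, Equiv.coe_mulRight]
          rw [CfsgLib.Char.IsClassFunction.mul_comm'
            (CfsgLib.Char.IsIrrCharacter.isClassFunction χ.2) (x * (r : G))⁻¹
            (g⁻¹ * (x * (r : G))), mul_inv_cancel_right]
          ring
      _ = ∑ χ ∈ B.toFinset,
            ((((Subgroup.centralizer ({x} : Set G)).index * T.deg : ℕ) : ℂ)) ^ 3 *
              (topVal T χ 0 ^ 3 * topVal T χ t / (χ : G → ℂ) 1 ^ 2) * conj (T.brauer r) := by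
          rw [← Finset.sum_subset (Finset.subset_univ B.toFinset) fun χ _ hχ => by
            rw [hsh, topVal_eq_zero hM hB h hP T (fun h' => hχ (Set.mem_toFinset.2 h')) 0,
              zero_mul, mul_zero]]
          refine Finset.sum_congr rfl fun χ _ => ?_
          have h1 : (χ : G → ℂ) 1 ≠ 0 := CfsgLib.BlockReg.deg_ne_zero χ
          rw [hZ, map_mul, map_mul, homega, homega, hsh]
          field_simp
      _ = _ := by
          rw [← Finset.sum_mul, ← Finset.mul_sum]
          have hb : conj (T.brauer r) = (Nat.card (Subgroup.centralizer ({x} : Set G)) : ℂ) *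
              blockCoeff T.blk r / ((T.deg : ℂ) * (2 * q : ℕ)) := by
            rw [T.coeff_regular r hr]; field_simp
          rw [hb, ← Subgroup.card_mul_index (Subgroup.centralizer ({x} : Set G))]
          push_cast
          field_simp
  -- the value in characteristic two
  have htr : ∀ a : MonoidAlgebra (ResField M) G,
      ConjFixed (Subgroup.centralizer ({x} : Set G)) a →
      InCenter (Subgroup.centralizer ({x} : Set G)) (trunc (Subgroup.zpowers x) a) := fun a ha =>
    hKC ▸ trunc_inCenter (hKC ▸ ha)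
  have hmod : (rd M ((Z : MonoidAlgebra ℂ G) * ê)).coeff (x * (r : G)) =
      if t ≤ 1 then (below D e x).coeff (r : G) else 0 := by
    rw [hZv, rd_mul (((hloc _).mul (hloc _)).mul (hloc _)) hloce,
      rd_mul ((hloc _).mul (hloc _)) (hloc _), rd_mul (hloc _) (hloc _), hê, rd_exactIn T.isBlock,
      T.eIn_eq]
    simp only [f, y, hê]
    simp only [rd_traceTo _ ((loc_single _).mul (loc_exactIn T.isBlock)),
      rd_mul (loc_single _) (loc_exactIn T.isBlock), rd_single, rd_exactIn T.isBlock, T.eIn_eq]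
    set F₁ := traceTo (Subgroup.centralizer ({x} : Set G))
      (MonoidAlgebra.single (x ^ (2 * 0 + 1)) (1 : ResField M) * below D e x) with hF₁
    set F₂ := traceTo (Subgroup.centralizer ({x} : Set G))
      (MonoidAlgebra.single (x ^ (2 * t + 1)) (1 : ResField M) * below D e x) with hF₂
    have hc1 : InCenter (⊤ : Subgroup G) F₁ :=
      inCenter_traceTo ((h.inCenter_single_pow _).mul hblk.mem).fixed
    have hc2 : InCenter (⊤ : Subgroup G) F₂ :=
      inCenter_traceTo ((h.inCenter_single_pow _).mul hblk.mem).fixed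
    have hsupp : SuppIn (Subgroup.centralizer (Subgroup.zpowers x : Set G)) (below D e x) :=
      hKC ▸ hblk.mem.supp
    have hfixC := suppIn_centralizer_conjFixed hsupp
    have key : trunc (Subgroup.zpowers x) (F₁ * F₁ * F₂ * below D e x) =
        (trunc (Subgroup.zpowers x) F₁ * below D e x) *
          (trunc (Subgroup.zpowers x) F₁ * below D e x) *
          (trunc (Subgroup.zpowers x) F₂ * below D e x) := by
      rw [trunc_mul h.isPGroup (((hc1.mul hc1).mul hc2).conjFixed_top _) hfixC,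
        trunc_mul h.isPGroup ((hc1.mul hc1).conjFixed_top _) (hc2.conjFixed_top _),
        trunc_mul h.isPGroup (hc1.conjFixed_top _) (hc1.conjFixed_top _), trunc_eq_self hsupp]
      have c1 := (htr F₁ (hc1.conjFixed_top _)).mul_comm hblk.mem
      have c2 := (htr F₂ (hc2.conjFixed_top _)).mul_comm hblk.mem
      have hi : ∀ z, below D e x * (below D e x * z) = below D e x * z := fun z => by
        rw [← mul_assoc, hblk.idem]
      have hb' : ∀ z, below D e x * (trunc (Subgroup.zpowers x) F₁ * z) =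
          trunc (Subgroup.zpowers x) F₁ * (below D e x * z) := fun z => by
        rw [← mul_assoc, ← c1, mul_assoc]
      have hc' : ∀ z, below D e x * (trunc (Subgroup.zpowers x) F₂ * z) =
          trunc (Subgroup.zpowers x) F₂ * (below D e x * z) := fun z => by
        rw [← mul_assoc, ← c2, mul_assoc]
      simp only [mul_assoc, hb', hc', hi, hblk.idem]
    have hxr : x * (r : G) ∈ Subgroup.centralizer (Subgroup.zpowers x : Set G) :=
      hKC ▸ mul_mem (Subgroup.mem_centralizer_singleton_iff.2 rfl) r.2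
    have hc : (F₁ * F₁ * F₂ * below D e x).coeff (x * (r : G)) =
        (trunc (Subgroup.zpowers x) (F₁ * F₁ * F₂ * below D e x)).coeff (x * (r : G)) := by
      rw [coeff_trunc, if_pos hxr]
    rw [hc, key, hF₁, hF₂, trunc_traceTo_mul hM h hP hno, trunc_traceTo_mul hM h hP hno]
    have hmul : ∀ a b : ℤ, MonoidAlgebra.single (x ^ a) (1 : ResField M) * below D e x *
        (MonoidAlgebra.single (x ^ b) (1 : ResField M) * below D e x) =
          MonoidAlgebra.single (x ^ (a + b)) (1 : ResField M) * below D e x := by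
      intro a b
      have hb : InCenter (Subgroup.centralizer ({x} : Set G))
          (MonoidAlgebra.single (x ^ b) (1 : ResField M)) :=
        inCenter_single (zpow_mem (Subgroup.mem_centralizer_singleton_iff.2 rfl) b) fun k hk =>
          (Commute.zpow_right (Subgroup.mem_centralizer_singleton_iff.1 hk : Commute k x) b)
      rw [mul_assoc, ← mul_assoc (below D e x), ← hb.mul_comm hblk.mem, mul_assoc, hblk.idem,
        ← mul_assoc, MonoidAlgebra.single_mul_single, one_mul, ← zpow_add]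
    have hself : ∀ z : MonoidAlgebra (ResField M) G, z + z = 0 := fun z => by
      ext c
      simp [CharTwo.add_self_eq_zero]
    simp only [add_mul, mul_zero, zero_add, ← zpow_natCast, ← zpow_neg, mul_add, hmul]
    simp only [MonoidAlgebra.coeff_add, Finsupp.add_apply, coeff_zpow_mul hM h T hr]
    have hiff : ∀ a c : ℤ, a = c → c.natAbs < 2 * q → (((2 * q : ℕ) : ℤ) ∣ a ↔ c = 0) := by
      rintro a c rfl hc
      refine ⟨fun hd => Int.eq_zero_of_dvd_of_natAbs_lt_natAbs hd ?_, fun h0 => h0 ▸ dvd_zero _⟩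
      rwa [Int.natAbs_natCast]
    simp only [hiff (1 - (((1 : ℕ) : ℤ) + (1 : ℕ) + (2 * t + 1 : ℕ))) (-(2 * t + 2)) (by omega) (by omega),
      hiff (1 - (-((1 : ℕ) : ℤ) + (1 : ℕ) + (2 * t + 1 : ℕ))) (-(2 * t)) (by omega) (by omega),
      hiff (1 - (((1 : ℕ) : ℤ) + -((1 : ℕ) : ℤ) + (2 * t + 1 : ℕ))) (-(2 * t)) (by omega) (by omega),
      hiff (1 - (-((1 : ℕ) : ℤ) + -((1 : ℕ) : ℤ) + (2 * t + 1 : ℕ))) (2 - 2 * t) (by omega) (by omega),
      hiff (1 - (((1 : ℕ) : ℤ) + (1 : ℕ) + -((2 * t + 1 : ℕ) : ℤ))) (2 * t) (by omega) (by omega),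
      hiff (1 - (-((1 : ℕ) : ℤ) + (1 : ℕ) + -((2 * t + 1 : ℕ) : ℤ))) (2 * t + 2) (by omega) (by omega),
      hiff (1 - (((1 : ℕ) : ℤ) + -((1 : ℕ) : ℤ) + -((2 * t + 1 : ℕ) : ℤ))) (2 * t + 2) (by omega) (by omega),
      hiff (1 - (-((1 : ℕ) : ℤ) + -((1 : ℕ) : ℤ) + -((2 * t + 1 : ℕ) : ℤ))) (2 * t + 4) (by omega) (by omega)]
    simp only [show ¬ (-(2 * (t : ℤ) + 2) = 0) by omega, show ¬ (2 * (t : ℤ) + 2 = 0) by omega,
      show ¬ (2 * (t : ℤ) + 4 = 0) by omega, if_false, add_zero, zero_add]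
    rcases Nat.lt_or_ge t 2 with ht2 | ht2
    · interval_cases t <;> norm_num [CharTwo.add_self_eq_zero]
    · simp only [show ¬ (-(2 * (t : ℤ)) = 0) by omega, show ¬ (2 - 2 * (t : ℤ) = 0) by omega,
        show ¬ (2 * (t : ℤ) = 0) by omega, show ¬ (t ≤ 1) by omega, if_false, add_zero]
  have hR : MemLocalRing M (blockCoeff T.blk r) := CfsgLib.Blocks.blockCoeff_mem T.isBlock r
  rw [mul_sub, ← hval]
  have hr2 : (below D e x).coeff (r : G) = red M ⟨blockCoeff T.blk r, hR⟩ := by
    refine ((congrArg (fun z => z.coeff (r : G)) T.eIn_eq).symm.trans (coeff_eIn _ _)).trans ?_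
    refine congrArg (red M) (Subtype.ext ?_)
    show subgroupBlockCoeff _ T.blk (r : G) = _
    rw [subgroupBlockCoeff, dif_pos r.2]
  rw [coeff_rd hlocZ, hr2] at hmod
  split_ifs at hmod ⊢ with ht1
  · rw [mul_one]
    exact (CfsgLib.Blocks.memLocalIdeal_sub_iff (x := ⟨_, hlocZ _⟩) (y := ⟨_, hR⟩)).2 hmod
  · rw [mul_zero, ← ZeroMemClass.coe_zero (CfsgLib.Blocks.locRing M)]
    exact (CfsgLib.Blocks.memLocalIdeal_sub_iff (x := ⟨_, hlocZ _⟩) (y := 0)).2
      (hmod.trans (map_zero _).symm)

end CfsgLib.DihBlocks
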