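import Cfsg.Agent.Lib.BlockRank.CycloTwo

/-!
# Real cyclotomic integers of two-power conductor

`η ζ i k = ζ ^ (i * k) + conj (ζ ^ (i * k))` for a primitive root of unity `ζ` of order `2 * q`.
-/

set_option autoImplicit false
set_option maxHeartbeats 800000

open scoped ComplexConjugate

namespace CfsgLib.DihBlocks

/-- The real sums of two conjugate roots of unity. -/
noncomputable def eta (ζ : ℂ) (i k : ℕ) : ℂ := ζ ^ (i * k) + conj (ζ ^ (i * k))

/-- The quotients `(η (2t+1) / η 1 - 1) / (η₂ - 2)`. -/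
noncomputable def etaQuot (e : ℂ) : ℕ → ℂ
  | 0 => 0
  | 1 => 1
  | t + 2 => e * etaQuot e (t + 1) - etaQuot e t + 1

variable {q : ℕ} {ζ : ℂ}

theorem root_pow_half (hq : 1 ≤ q) (hζ : IsPrimitiveRoot ζ (2 * q)) : ζ ^ q = -1 := by
  have h2 : (ζ ^ q) ^ 2 = 1 := by rw [← pow_mul, mul_comm, hζ.pow_eq_one]
  exact (sq_eq_one_iff.mp h2).resolve_left (hζ.pow_ne_one_of_pos_of_lt (by omega) (by omega))

theorem conj_root_pow (hq : 1 ≤ q) (hζ : IsPrimitiveRoot ζ (2 * q)) (a : ℕ) :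
    conj (ζ ^ a) = (ζ ^ a)⁻¹ := by
  rw [map_pow, ← inv_pow,
    Complex.inv_eq_conj (Complex.norm_eq_one_of_pow_eq_one hζ.pow_eq_one (by omega))]

theorem root_pow_eq_one_iff (hζ : IsPrimitiveRoot ζ (2 * q)) (a : ℕ) :
    ζ ^ a = 1 ↔ 2 * q ∣ a :=
  hζ.pow_eq_one_iff_dvd a

theorem isIntegral_root_pow (hq : 1 ≤ q) (hζ : IsPrimitiveRoot ζ (2 * q)) (a : ℕ) :
    IsIntegral ℤ (ζ ^ a) :=
  (hζ.isIntegral (by omega)).pow a

theorem isIntegral_eta (hq : 1 ≤ q) (hζ : IsPrimitiveRoot ζ (2 * q)) (i k : ℕ) :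
    IsIntegral ℤ (eta ζ i k) :=
  (isIntegral_root_pow hq hζ _).add
    ((isIntegral_root_pow hq hζ _).map (RingHom.toIntAlgHom (starRingEnd ℂ)))

theorem eta_reflect (hq : 1 ≤ q) (hζ : IsPrimitiveRoot ζ (2 * q)) (i : ℕ) {t : ℕ} (ht : t < q) :
    eta ζ i (2 * (q - 1 - t) + 1) = eta ζ i (2 * t + 1) := by
  have h : ζ ^ (i * (2 * (q - 1 - t) + 1)) = conj (ζ ^ (i * (2 * t + 1))) := by
    rw [conj_root_pow hq hζ]
    refine eq_inv_of_mul_eq_one_left ?_
    rw [← pow_add, ← mul_add, show 2 * (q - 1 - t) + 1 + (2 * t + 1) = 2 * q by omega, mul_comm,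
      pow_mul, hζ.pow_eq_one, one_pow]
  rw [eta, eta, h, Complex.conj_conj, add_comm]

theorem sum_odd_pow (hζ : IsPrimitiveRoot ζ (2 * q)) {a : ℕ} (ha : ¬ q ∣ a) :
    ∑ t ∈ Finset.range q, (ζ ^ (2 * t + 1)) ^ a = 0 := by
  have h2 : ζ ^ (2 * a) ≠ 1 := fun h => ha (Nat.dvd_of_mul_dvd_mul_left two_pos
    ((root_pow_eq_one_iff hζ _).1 h))
  have h1 : (ζ ^ (2 * a)) ^ q = 1 := by
    rw [← pow_mul, show 2 * a * q = 2 * q * a by ring, pow_mul, hζ.pow_eq_one, one_pow]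
  calc ∑ t ∈ Finset.range q, (ζ ^ (2 * t + 1)) ^ a
      = ζ ^ a * ∑ t ∈ Finset.range q, (ζ ^ (2 * a)) ^ t := by
        rw [Finset.mul_sum]
        exact Finset.sum_congr rfl fun t _ => by
          rw [← pow_mul, ← pow_mul, ← pow_add]; congr 1; ring
    _ = 0 := by rw [geom_sum_eq h2, h1, sub_self, zero_div, mul_zero]

theorem sum_odd_pow_mul_conj (hq : 1 ≤ q) (hζ : IsPrimitiveRoot ζ (2 * q)) {a b : ℕ} (ha : a < q)
    (hb : b < q) :
    ∑ t ∈ Finset.range q, (ζ ^ (2 * t + 1)) ^ a * conj ((ζ ^ (2 * t + 1)) ^ b) =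
      if a = b then (q : ℂ) else 0 := by
  have hterm : ∀ t, conj ((ζ ^ (2 * t + 1)) ^ b) = (ζ ^ (2 * t + 1)) ^ (2 * q - b) := by
    intro t
    rw [← pow_mul, conj_root_pow hq hζ, ← pow_mul]
    refine (eq_inv_of_mul_eq_one_left ?_).symm
    rw [← pow_add, ← mul_add, Nat.sub_add_cancel (by omega), mul_comm, pow_mul, hζ.pow_eq_one,
      one_pow]
  simp only [hterm, ← pow_add]
  split_ifs with hab
  · subst hab
    rw [Finset.sum_congr rfl (g := fun _ => (1 : ℂ)) fun t _ => by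
      rw [show a + (2 * q - a) = 2 * q by omega, ← pow_mul, mul_comm, pow_mul, hζ.pow_eq_one,
        one_pow]]
    simp
  · refine sum_odd_pow hζ ?_
    rintro ⟨c, hc⟩
    rcases Nat.lt_or_ge c 2 with hc1 | hc1
    · interval_cases c <;> omega
    rcases Nat.lt_or_ge c 3 with hc2 | hc2
    · interval_cases c; omega
    have : q * 3 ≤ q * c := Nat.mul_le_mul_left q hc2
    omega

theorem sum_odd_pow_value (hq : 1 ≤ q) (hζ : IsPrimitiveRoot ζ (2 * q)) {c : ℕ} (hc : c < 2 * q) :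
    ∑ t ∈ Finset.range q, (ζ ^ (2 * t + 1)) ^ c =
      if c = 0 then (q : ℂ) else if c = q then -(q : ℂ) else 0 := by
  split_ifs with h0 h1
  · subst h0; simp
  · subst h1
    rw [Finset.sum_congr rfl (g := fun _ => (-1 : ℂ)) fun t _ => by
      rw [← pow_mul, mul_comm, pow_mul, root_pow_half hq hζ, Odd.neg_one_pow ⟨t, rfl⟩]]
    simp
  · refine sum_odd_pow hζ ?_
    rintro ⟨d, rfl⟩
    rcases Nat.lt_or_ge d 2 with hd | hd
    · interval_cases d <;> omega
    · have : q * 2 ≤ q * d := Nat.mul_le_mul_left q hd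
      omega

/-- The coefficient vectors of a real orthogonal column. -/
theorem gram_coeff {κ : Type*} (S : Finset κ) (hq : 1 ≤ q) (hζ : IsPrimitiveRoot ζ (2 * q))
    (r : κ → ℕ → ℤ) (a : κ → ℕ → ℂ)
    (ha : ∀ χ ∈ S, ∀ t < q, a χ t = ∑ i ∈ Finset.range q, (r χ i : ℂ) * (ζ ^ (2 * t + 1)) ^ i)
    (hgram : ∀ t < q, ∀ u < q, ∑ χ ∈ S, a χ t * a χ u =
      (2 * q : ℂ) * ((if u = t then 1 else 0) + if u = q - 1 - t then 1 else 0))
    {i k : ℕ} (hi : i < q) (hk : k < q) :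
    ∑ χ ∈ S, r χ i * r χ k =
      2 * ((if i = k then 1 else 0) +
        ((if i + k = 0 then 1 else 0) - if i + k = q then 1 else 0)) := by
  classical
  have hinv : ∀ χ ∈ S, ∀ l < q,
      ∑ t ∈ Finset.range q, conj ((ζ ^ (2 * t + 1)) ^ l) * a χ t = (q : ℂ) * r χ l := by
    intro χ hχ l hl
    rw [Finset.sum_congr rfl fun t ht => by rw [ha χ hχ t (Finset.mem_range.1 ht)]]
    simp only [Finset.mul_sum]
    rw [Finset.sum_comm, Finset.sum_eq_single l]
    · rw [Finset.sum_congr rfl fun t _ => mul_left_comm _ _ _, ← Finset.mul_sum,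
        Finset.sum_congr rfl fun t _ => mul_comm (conj ((ζ ^ (2 * t + 1)) ^ l)) _,
        sum_odd_pow_mul_conj hq hζ hl hl, if_pos rfl, mul_comm]
    · intro m hm hml
      rw [Finset.sum_congr rfl fun t _ => mul_left_comm _ _ _, ← Finset.mul_sum,
        Finset.sum_congr rfl fun t _ => mul_comm (conj ((ζ ^ (2 * t + 1)) ^ l)) _,
        sum_odd_pow_mul_conj hq hζ (Finset.mem_range.1 hm) hl, if_neg hml, mul_zero]
    · exact fun h => absurd (Finset.mem_range.2 hl) h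
  have hrefl : ∀ t < q, ∀ l, (ζ ^ (2 * (q - 1 - t) + 1)) ^ l = conj ((ζ ^ (2 * t + 1)) ^ l) := by
    intro t ht l
    rw [map_pow, conj_root_pow hq hζ]
    congr 1
    refine eq_inv_of_mul_eq_one_left ?_
    rw [← pow_add, show 2 * (q - 1 - t) + 1 + (2 * t + 1) = 2 * q by omega, hζ.pow_eq_one]
  have key : (q : ℂ) ^ 2 * ((∑ χ ∈ S, r χ i * r χ k : ℤ) : ℂ) =
      (q : ℂ) ^ 2 * ((2 * ((if i = k then 1 else 0) +
        ((if i + k = 0 then 1 else 0) - if i + k = q then 1 else 0)) : ℤ) : ℂ) := by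
    calc (q : ℂ) ^ 2 * ((∑ χ ∈ S, r χ i * r χ k : ℤ) : ℂ)
        = ∑ χ ∈ S, (∑ t ∈ Finset.range q, conj ((ζ ^ (2 * t + 1)) ^ i) * a χ t) *
            ∑ u ∈ Finset.range q, conj ((ζ ^ (2 * u + 1)) ^ k) * a χ u := by
          push_cast
          rw [Finset.mul_sum]
          refine Finset.sum_congr rfl fun χ hχ => ?_
          rw [hinv χ hχ i hi, hinv χ hχ k hk]
          ring
      _ = ∑ t ∈ Finset.range q, ∑ u ∈ Finset.range q,
            conj ((ζ ^ (2 * t + 1)) ^ i) * conj ((ζ ^ (2 * u + 1)) ^ k) *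
              ((2 * q : ℂ) * ((if u = t then 1 else 0) + if u = q - 1 - t then 1 else 0)) := by
          simp only [Finset.sum_mul_sum]
          rw [Finset.sum_comm]
          refine Finset.sum_congr rfl fun t ht => ?_
          rw [Finset.sum_comm]
          refine Finset.sum_congr rfl fun u hu => ?_
          rw [← hgram t (Finset.mem_range.1 ht) u (Finset.mem_range.1 hu), Finset.mul_sum]
          exact Finset.sum_congr rfl fun χ _ => by ring
      _ = (2 * q : ℂ) * ((conj (∑ t ∈ Finset.range q, (ζ ^ (2 * t + 1)) ^ (i + k))) +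
            ∑ t ∈ Finset.range q, (ζ ^ (2 * t + 1)) ^ k * conj ((ζ ^ (2 * t + 1)) ^ i)) := by
          rw [map_sum, ← Finset.sum_add_distrib, Finset.mul_sum]
          refine Finset.sum_congr rfl fun t ht => ?_
          simp only [mul_add, Finset.sum_add_distrib, mul_ite, mul_one, mul_zero,
            Finset.sum_ite_eq']
          have ht' := Finset.mem_range.1 ht
          rw [if_pos ht, if_pos (Finset.mem_range.2 (by omega : q - 1 - t < q)), hrefl t ht',
            Complex.conj_conj, pow_add (ζ ^ (2 * t + 1)) i k, map_mul]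
          ring
      _ = _ := by
          rw [sum_odd_pow_value hq hζ (by omega : i + k < 2 * q),
            sum_odd_pow_mul_conj hq hζ hk hi]
          rcases eq_or_ne (i + k) 0 with h0 | h0
          · have hi0 : i = 0 := by omega
            have hk0 : k = 0 := by omega
            subst hi0; subst hk0
            simp only [if_true, Nat.zero_add, if_neg (by omega : ¬ (0 = q)), map_natCast]
            push_cast
            ring
          · rw [if_neg h0, if_neg h0]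
            by_cases hiq : i + k = q <;> by_cases hik : i = k
            · rw [if_pos hiq, if_pos hiq, if_pos hik, if_pos hik.symm, map_neg, map_natCast]
              push_cast; ring
            · rw [if_pos hiq, if_pos hiq, if_neg hik, if_neg (Ne.symm hik), map_neg, map_natCast]
              push_cast; ring
            · rw [if_neg hiq, if_neg hiq, if_pos hik, if_pos hik.symm, map_zero]
              push_cast; ring
            · rw [if_neg hiq, if_neg hiq, if_neg hik, if_neg (Ne.symm hik), map_zero]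
              push_cast; ring
  have hq0 : (q : ℂ) ^ 2 ≠ 0 := pow_ne_zero 2 (Nat.cast_ne_zero.2 (by omega))
  exact_mod_cast mul_left_cancel₀ hq0 key

theorem sum_half (hq2 : 2 ∣ q) (F : ℕ → ℂ) (hF : ∀ t < q, F (q - 1 - t) = F t) :
    ∑ t ∈ Finset.range q, F t = 2 * ∑ t ∈ Finset.range (q / 2), F t := by
  obtain ⟨h, rfl⟩ := hq2
  rw [Nat.mul_div_cancel_left h two_pos]
  conv_lhs => rw [two_mul, Finset.sum_range_add]
  have h2 : ∑ t ∈ Finset.range h, F (h + t) = ∑ t ∈ Finset.range h, F t := by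
    rw [← Finset.sum_range_reflect (fun t => F (h + t)) h]
    refine Finset.sum_congr rfl fun t ht => ?_
    have ht' := Finset.mem_range.1 ht
    rw [← hF t (by omega)]
    congr 1
    omega
  rw [h2, two_mul]

theorem sum_half_eta (hq2 : 2 ∣ q) (hζ : IsPrimitiveRoot ζ (2 * q)) {i : ℕ} (hi : 1 ≤ i)
    (hiq : i < q) : ∑ t ∈ Finset.range (q / 2), eta ζ i (2 * t + 1) = 0 := by
  have hq : 1 ≤ q := by omega
  have h := sum_half hq2 (fun t => eta ζ i (2 * t + 1)) fun t ht => eta_reflect hq hζ i ht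
  have h0 : ∑ t ∈ Finset.range q, eta ζ i (2 * t + 1) = 0 := by
    have hp : ∀ t, ζ ^ (i * (2 * t + 1)) = (ζ ^ (2 * t + 1)) ^ i := fun t => by
      rw [← pow_mul, mul_comm]
    simp only [eta, hp, Finset.sum_add_distrib, ← map_sum,
      sum_odd_pow hζ (Nat.not_dvd_of_pos_of_lt hi hiq), map_zero, add_zero]
  rw [h0] at h
  exact (mul_eq_zero.1 h.symm).resolve_left two_ne_zero

theorem sum_half_eta_mul (hq2 : 2 ∣ q) (hζ : IsPrimitiveRoot ζ (2 * q)) {l i : ℕ} (hl : 1 ≤ l)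
    (hlq : l < q / 2) (hi : 1 ≤ i) (hiq : i < q / 2) :
    ∑ t ∈ Finset.range (q / 2), eta ζ l (2 * t + 1) * eta ζ i (2 * t + 1) =
      if l = i then (q : ℂ) else 0 := by
  have hq : 1 ≤ q := by omega
  have h := sum_half hq2 (fun t => eta ζ l (2 * t + 1) * eta ζ i (2 * t + 1)) fun t ht => by
    show eta ζ l _ * eta ζ i _ = _
    rw [eta_reflect hq hζ l ht, eta_reflect hq hζ i ht]
  have h0 : ∑ t ∈ Finset.range q, eta ζ l (2 * t + 1) * eta ζ i (2 * t + 1) =
      2 * if l = i then (q : ℂ) else 0 := by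
    have hp : ∀ m t, ζ ^ (m * (2 * t + 1)) = (ζ ^ (2 * t + 1)) ^ m := fun m t => by
      rw [← pow_mul, mul_comm]
    rw [Finset.sum_congr rfl (g := fun t => (ζ ^ (2 * t + 1)) ^ (l + i) +
        conj ((ζ ^ (2 * t + 1)) ^ (l + i)) +
        ((ζ ^ (2 * t + 1)) ^ i * conj ((ζ ^ (2 * t + 1)) ^ l) +
          (ζ ^ (2 * t + 1)) ^ l * conj ((ζ ^ (2 * t + 1)) ^ i))) fun t _ => by
      simp only [eta, hp, pow_add (ζ ^ (2 * t + 1)) l i, map_mul]
      ring]
    rw [Finset.sum_add_distrib, Finset.sum_add_distrib, Finset.sum_add_distrib, ← map_sum,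
      sum_odd_pow_mul_conj hq hζ (by omega : i < q) (by omega : l < q),
      sum_odd_pow_mul_conj hq hζ (by omega : l < q) (by omega : i < q),
      sum_odd_pow hζ (Nat.not_dvd_of_pos_of_lt (by omega) (by omega : l + i < q)), map_zero]
    by_cases hli : l = i
    · subst hli; simp; ring
    · rw [if_neg hli, if_neg (Ne.symm hli)]; simp
  rw [h0] at h
  exact (mul_left_cancel₀ two_ne_zero h).symm

theorem isIntegral_etaQuot {e : ℂ} (he : IsIntegral ℤ e) : ∀ t, IsIntegral ℤ (etaQuot e t)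
  | 0 => by rw [etaQuot]; exact isIntegral_zero
  | 1 => by rw [etaQuot]; exact isIntegral_one
  | t + 2 => by
    rw [etaQuot]
    exact ((he.mul (isIntegral_etaQuot he (t + 1))).sub (isIntegral_etaQuot he t)).add isIntegral_one

theorem eta_odd_eq (hq : 1 ≤ q) (hζ : IsPrimitiveRoot ζ (2 * q)) (i : ℕ) : ∀ t : ℕ,
    eta ζ i (2 * t + 1) =
      eta ζ i 1 * (1 + (eta ζ (2 * i) 1 - 2) * etaQuot (eta ζ (2 * i) 1) t) := by
  have hrec : ∀ t : ℕ, eta ζ i (2 * t + 5) =
      eta ζ (2 * i) 1 * eta ζ i (2 * t + 3) - eta ζ i (2 * t + 1) := by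
    intro t
    simp only [eta, conj_root_pow hq hζ]
    have hz : ζ ≠ 0 := hζ.ne_zero (by omega)
    rw [show i * (2 * t + 5) = i * (2 * t + 1) + 2 * i + 2 * i by ring,
      show i * (2 * t + 3) = i * (2 * t + 1) + 2 * i by ring, mul_one, pow_add, pow_add]
    field_simp
    ring
  have hone : eta ζ i 3 = eta ζ i 1 * (eta ζ (2 * i) 1 - 1) := by
    simp only [eta, conj_root_pow hq hζ, mul_one]
    have hz : ζ ≠ 0 := hζ.ne_zero (by omega)
    rw [show i * 3 = i + 2 * i by ring, pow_add, show 2 * i = i + i by ring, pow_add]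
    field_simp
    ring
  intro t
  induction t using Nat.strong_induction_on with
  | _ t ih =>
    match t with
    | 0 => simp [etaQuot]
    | 1 => rw [etaQuot]; linear_combination hone
    | t + 2 =>
      rw [etaQuot, show 2 * (t + 2) + 1 = 2 * t + 5 by ring, hrec t,
        show 2 * t + 3 = 2 * (t + 1) + 1 by ring, ih (t + 1) (by omega), ih t (by omega)]
      ring

theorem eta_sq (hq : 1 ≤ q) (hζ : IsPrimitiveRoot ζ (2 * q)) (i : ℕ) :
    eta ζ i 1 ^ 2 = (eta ζ (2 * i) 1 - 2) + 4 := by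
  simp only [eta, conj_root_pow hq hζ, mul_one]
  have hz : ζ ≠ 0 := hζ.ne_zero (by omega)
  rw [show 2 * i = i + i by ring, pow_add]
  field_simp
  ring

theorem two_dvd_eta {t : ℕ} (hqt : q = 2 ^ t) (hζ : IsPrimitiveRoot ζ (2 * q)) {i : ℕ}
    (hi : 1 ≤ i) (hiq : i < q / 2) :
    ∃ A B : ℂ, IsIntegral ℤ A ∧ IsIntegral ℤ B ∧ (2 : ℂ) = (eta ζ (2 * i) 1 - 2) * A ∧
      (2 : ℂ) = eta ζ i 1 * B := by
  have hq : 1 ≤ q := by omega
  set ξ := ζ ^ (2 * i) with hξ
  have hq1 : ξ ^ 2 ^ t = 1 := by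
    rw [hξ, ← pow_mul, ← hqt, show 2 * i * q = 2 * q * i by ring, pow_mul, hζ.pow_eq_one, one_pow]
  obtain ⟨m, hmt, hm⟩ := (Nat.dvd_prime_pow Nat.prime_two).1 (orderOf_dvd_of_pow_eq_one hq1)
  obtain ⟨k, rfl⟩ : ∃ k, m = k + 2 := by
    refine ⟨m - 2, ?_⟩
    rcases Nat.lt_or_ge m 2 with h | h
    · exfalso
      have : ξ ^ 2 = 1 := orderOf_dvd_iff_pow_eq_one.1 (hm ▸ pow_dvd_pow 2 (by omega : m ≤ 1))
      rw [hξ, ← pow_mul] at this
      have := Nat.le_of_dvd (by omega) ((root_pow_eq_one_iff hζ _).1 this)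
      omega
    · omega
  have hprim : IsPrimitiveRoot ξ (2 ^ (k + 1 + 1)) := hm ▸ IsPrimitiveRoot.orderOf ξ
  have hneg : IsPrimitiveRoot (-ξ) (2 ^ (k + 1 + 1)) := by
    have h2 : ξ ^ 2 ^ (k + 1) = -1 :=
      root_pow_half Nat.one_le_two_pow (by rwa [← pow_succ'])
    have h3 := hprim.pow_of_coprime (2 ^ (k + 1) + 1) (Nat.Coprime.pow_right _
      ((Nat.coprime_two_right).2 ⟨2 ^ k, by rw [pow_succ']⟩))
    rwa [pow_succ ξ, h2, neg_one_mul] at h3
  obtain ⟨r, hr, h2⟩ := CfsgLib.BlockRank.exists_two_eq_pow_mul hprim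
  obtain ⟨r', hr', h2'⟩ := CfsgLib.BlockRank.exists_two_eq_pow_mul hneg
  have hev : Even (2 ^ (k + 1)) := (even_two).pow_of_ne_zero (by omega)
  rw [show -ξ - 1 = -(ξ + 1) by ring, hev.neg_pow] at h2'
  have hξi : IsIntegral ℤ ξ := isIntegral_root_pow hq hζ _
  have hξ0 : ξ ≠ 0 := pow_ne_zero _ (hζ.ne_zero (by omega))
  have hge : 2 ≤ 2 ^ (k + 1) := by
    calc 2 = 2 ^ 1 := rfl
      _ ≤ 2 ^ (k + 1) := Nat.pow_le_pow_right two_pos (by omega)
  refine ⟨ξ * (ξ - 1) ^ (2 ^ (k + 1) - 2) * r,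
    ζ ^ i * (ξ + 1) ^ (2 ^ (k + 1) - 1) * r',
    (hξi.mul ((hξi.sub isIntegral_one).pow _)).mul hr,
    ((isIntegral_root_pow hq hζ i).mul ((hξi.add isIntegral_one).pow _)).mul hr', ?_, ?_⟩
  · have hlam : (eta ζ (2 * i) 1 - 2) * ξ = (ξ - 1) ^ 2 := by
      rw [eta, mul_one, conj_root_pow hq hζ, ← hξ]
      field_simp
      ring
    calc (2 : ℂ) = (ξ - 1) ^ (2 + (2 ^ (k + 1) - 2)) * r := by
          rw [Nat.add_sub_cancel' hge, ← h2]
      _ = _ := by rw [pow_add, ← hlam]; ring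
  · have heta : eta ζ i 1 * ζ ^ i = ξ + 1 := by
      simp only [eta, conj_root_pow hq hζ, mul_one, hξ, two_mul, pow_add, add_mul,
        inv_mul_cancel₀ (pow_ne_zero i (hζ.ne_zero (by omega : 2 * q ≠ 0)))]
    calc (2 : ℂ) = (ξ + 1) ^ (1 + (2 ^ (k + 1) - 1)) * r' := by
          rw [Nat.add_sub_cancel' (by omega), ← h2']
      _ = _ := by rw [pow_add, pow_one, ← heta]; ring

open CfsgLib.BlockReg in
theorem memLocalIdeal_eta {M : Ideal Cfsg.AlgInt} (hM : Cfsg.IsPModular 2 M) {t : ℕ}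
    (hqt : q = 2 ^ t) (hζ : IsPrimitiveRoot ζ (2 * q)) (i k : ℕ) :
    Cfsg.MemLocalIdeal M (eta ζ i k) := by
  have hq : 1 ≤ q := hqt ▸ Nat.one_le_two_pow
  have h2 : IsPrimitiveRoot ζ (2 ^ (t + 1)) := by rwa [pow_succ', ← hqt]
  have hsub : ∀ a : ℕ, Cfsg.MemLocalIdeal M (ζ ^ a - 1) := by
    intro a
    rw [← geom_sum_mul ζ a]
    exact memIdeal_mul_left hM (memRing_algInt hM (IsIntegral.sum _ fun j _ =>
      isIntegral_root_pow hq hζ j)) (CfsgLib.BlockRank.memLocalIdeal_sub_one hM h2)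
  have hinv : conj (ζ ^ (i * k)) = ζ ^ ((2 * q - 1) * (i * k)) := by
    rw [conj_root_pow hq hζ]
    refine (eq_inv_of_mul_eq_one_left ?_).symm
    rw [← pow_add, show (2 * q - 1) * (i * k) + i * k = 2 * q * (i * k) by
      rw [← Nat.succ_mul, show (2 * q - 1).succ = 2 * q by omega], pow_mul, hζ.pow_eq_one, one_pow]
  have h := memIdeal_add hM (memIdeal_add hM (hsub (i * k)) (hsub ((2 * q - 1) * (i * k))))
    ((memIdeal_natCast_iff hM 2).2 (dvd_refl 2))
  rw [← hinv] at h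
  convert h using 1
  rw [eta]
  push_cast
  ring

end CfsgLib.DihBlocks
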