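import Cfsg.Agent.Lib.DihedralBlocks.Top
import Cfsg.Agent.Lib.DihedralBlocks.CycloReal

/-!
# The coordinate vectors of the column at a generator of the cyclic part
-/

set_option autoImplicit false
set_option maxHeartbeats 1600000
set_option synthInstance.maxHeartbeats 400000

open scoped ComplexConjugate Classical
open Cfsg CfsgLib.Blocks CfsgLib.Blocks.Pairs CfsgLib.BlockRank Polynomial

namespace CfsgLib.DihBlocks

universe u

theorem Dih.pow_inj {G : Type u} [Group G] [Finite G] {D : Subgroup G} {x s : G} {q : ℕ}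
    (h : Dih D x s q) {a b : ℕ} (ha : a < 2 * q) (hb : b < 2 * q) (hab : x ^ a = x ^ b) : a = b := by
  rw [pow_eq_pow_iff_modEq, h.order] at hab
  exact Nat.ModEq.eq_of_lt_of_lt hab ha hb

theorem Dih.zpowers_odd {G : Type u} [Group G] [Finite G] {D : Subgroup G} {x s : G} {q : ℕ}
    (h : Dih D x s q) (t : ℕ) : Subgroup.zpowers (x ^ (2 * t + 1)) = Subgroup.zpowers x := by
  refine h.zpowers_eq_of_orderOf (Subgroup.npow_mem_zpowers x _) (Subgroup.mem_zpowers x) ?_
  rw [Nat.Coprime.orderOf_pow]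
  rw [h.order]
  obtain ⟨k, hk⟩ := h.isPow
  rw [hk, ← pow_succ']
  exact Nat.Coprime.pow_left _ ((Nat.coprime_two_left).2 ⟨t, rfl⟩)

theorem Dih.inv_odd {G : Type u} [Group G] {D : Subgroup G} {x s : G} {q : ℕ}
    (h : Dih D x s q) {t : ℕ} (ht : t < q) :
    s * x ^ (2 * t + 1) * s⁻¹ = x ^ (2 * (q - 1 - t) + 1) := by
  rw [h.inv_pow, inv_eq_iff_mul_eq_one, ← pow_add,
    show 2 * t + 1 + (2 * (q - 1 - t) + 1) = 2 * q by omega, ← h.order, pow_orderOf_eq_one]

variable {G : Type u} [Group G] [Fintype G] {M : Ideal AlgInt} [M.IsMaximal]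
  [CharP (ResField M) 2] {D : Subgroup G} {x s : G} {q : ℕ} {e : MonoidAlgebra (ResField M) G}
  {B : Set (IrrCharacter G)} {ζ : ℂ}

/-- The value of the column at `x ^ (2 t + 1)`. -/
noncomputable def topVal {f : MonoidAlgebra (ResField M) G} (T : TopData M B f x q ζ)
    (χ : IrrCharacter G) (t : ℕ) : ℂ :=
  aeval (ζ ^ (2 * t + 1)) (T.poly χ)

theorem centralizer_odd (h : Dih D x s q) (t : ℕ) :
    Subgroup.centralizer ({x} : Set G) = Subgroup.centralizer ({x ^ (2 * t + 1)} : Set G) := by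
  rw [centralizer_zpowers_eq, centralizer_zpowers_eq, h.zpowers_odd t]

theorem below_odd (h : Dih D x s q) (e : MonoidAlgebra (ResField M) G) (t : ℕ) :
    below D e (x ^ (2 * t + 1)) = below D e x := by
  simp only [below, h.zpowers_odd t]

theorem colOf_odd (h : Dih D x s q) (T : TopData M B (below D e x) x q ζ) (χ : IrrCharacter G)
    (t : ℕ) : colOf M (x ^ (2 * t + 1)) (below D e x) χ = (T.deg : ℂ) * topVal T χ t := by
  have h1 : IsPRegular 2 (1 : Subgroup.centralizer ({x} : Set G)) := by simp [IsPRegular]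
  have h2 := T.shifted χ (2 * t + 1) 1 h1
  rw [OneMemClass.coe_one, mul_one, T.brauer_one] at h2
  have h3 := colOf_eq_colVal (u := x ^ (2 * t + 1)) (centralizer_odd h t) T.isBlock χ
  rw [T.eIn_eq] at h3
  rw [h3, h2, topVal, mul_comm]

theorem topVal_eq_zero (hM : IsPModular 2 M) (hB : IsPBlock M B) (h : Dih D x s q)
    (hP : PairOf 2 (ebar hB) D e) (T : TopData M B (below D e x) x q ζ) {χ : IrrCharacter G}
    (hχ : χ ∉ B) (t : ℕ) : topVal T χ t = 0 := by
  have hp := pairOf_below hP (pow_mem h.mem_x (2 * t + 1))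
  rw [below_odd h] at hp
  have h0 := colOf_eq_zero hM hB hp hχ
  rw [colOf_odd h T] at h0
  exact (mul_eq_zero.1 h0).resolve_left (Nat.cast_ne_zero.2 T.deg_pos.ne')

theorem conjA_s_below (h : Dih D x s q) {E : MonoidAlgebra (ResField M) G}
    (hP : PairOf 2 E D e) : conjA s (below D e x) = below D e x :=
  (inf_normalizer_le_pairStab hP.pair (sle_below hP.pair h.mem_x)
    ⟨h.mem_s, h.mem_normalizer_zpowers (Subgroup.mem_zpowers x) h.mem_s⟩).2

theorem topVal_reflect (hB : IsPBlock M B) (h : Dih D x s q) (hP : PairOf 2 (ebar hB) D e)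
    (T : TopData M B (below D e x) x q ζ) (χ : IrrCharacter G) {t : ℕ} (ht : t < q) :
    topVal T χ (q - 1 - t) = topVal T χ t := by
  have hb : IsBlockIdem (Subgroup.centralizer ({x ^ (2 * t + 1)} : Set G)) (below D e x) := by
    rw [← centralizer_odd h t]
    exact isBlockIdem_of_pairOf (pairOf_below hP h.mem_x)
  have h2 := colOf_conjA hb s χ
  rw [conjA_s_below h hP, h.inv_odd ht, colOf_odd h T, colOf_odd h T] at h2
  exact mul_left_cancel₀ (Nat.cast_ne_zero.2 T.deg_pos.ne') h2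

theorem conj_topVal (hB : IsPBlock M B) (h : Dih D x s q) (hP : PairOf 2 (ebar hB) D e)
    (hζ : IsPrimitiveRoot ζ (2 * q)) (T : TopData M B (below D e x) x q ζ) (χ : IrrCharacter G)
    {t : ℕ} (ht : t < q) : conj (topVal T χ t) = topVal T χ t := by
  conv_rhs => rw [← topVal_reflect hB h hP T χ ht]
  have hq : 1 ≤ q := by omega
  have h1 : conj (ζ ^ (2 * t + 1)) = ζ ^ (2 * (q - 1 - t) + 1) := by
    rw [conj_root_pow hq hζ]
    refine (eq_inv_of_mul_eq_one_left ?_).symm
    rw [← pow_add, show 2 * (q - 1 - t) + 1 + (2 * t + 1) = 2 * q by omega, hζ.pow_eq_one]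
  rw [topVal, topVal, ← h1]
  exact (Polynomial.aeval_algHom_apply (RingHom.toIntAlgHom (starRingEnd ℂ)) _ _).symm

theorem sum_topVal (hM : IsPModular 2 M) (hB : IsPBlock M B) [Fintype B] (h : Dih D x s q)
    (hP : PairOf 2 (ebar hB) D e) (hno : NoExt 2 D e) (hζ : IsPrimitiveRoot ζ (2 * q))
    (T : TopData M B (below D e x) x q ζ) {t u : ℕ} (ht : t < q) (hu : u < q) :
    ∑ χ ∈ B.toFinset, topVal T χ t * topVal T χ u =
      (2 * q : ℂ) * ((if u = t then 1 else 0) + if u = q - 1 - t then 1 else 0) := by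
  have hdeg : (T.deg : ℂ) ≠ 0 := Nat.cast_ne_zero.2 T.deg_pos.ne'
  have hpair : ∀ v, PairOf 2 (ebar hB) (Subgroup.zpowers (x ^ (2 * v + 1))) (below D e x) :=
    fun v => below_odd h e v ▸ pairOf_below hP (pow_mem h.mem_x _)
  have hself : ∀ v < q, ∑ χ ∈ B.toFinset, topVal T χ v * topVal T χ v = (2 * q : ℂ) := by
    intro v hv
    have h1 := sum_colOf_self_eq hM hB (hpair v) (centralizer_odd h v) T.isBlock T.eIn_eq
    have h2 : (exactIn (Subgroup.centralizer ({x} : Set G)) T.blk).coeff 1 =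
        blockCoeff T.blk 1 := by
      simp [exactIn, subgroupBlockCoeff, Subgroup.one_mem]
      rfl
    rw [h2, T.coeff_regular 1 (by simp [IsPRegular]), T.brauer_one, map_natCast] at h1
    simp only [colOf_odd h T, map_mul, map_natCast, conj_topVal hB h hP hζ T _ hv] at h1
    refine mul_left_cancel₀ (mul_ne_zero hdeg hdeg) ?_
    rw [Finset.mul_sum]
    push_cast at h1
    calc _ = ∑ χ ∈ B.toFinset,
          (T.deg : ℂ) * topVal T χ v * ((T.deg : ℂ) * topVal T χ v) :=
          Finset.sum_congr rfl fun χ _ => by ring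
      _ = _ := by rw [h1]; ring
  have hne : ¬ (t = q - 1 - t) := by
    obtain ⟨k, hk⟩ := h.isPow
    have := h.two_le
    rcases k with _ | k
    · omega
    · rw [pow_succ] at hk; omega
  by_cases h1 : u = t
  · subst h1
    rw [hself u hu, if_pos rfl, if_neg hne]
    ring
  by_cases h2 : u = q - 1 - t
  · subst h2
    rw [if_neg h1, if_pos rfl,
      Finset.sum_congr rfl fun χ _ => by rw [topVal_reflect hB h hP T χ ht], hself t ht]
    ring
  rw [if_neg h1, if_neg h2, add_zero, mul_zero]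
  have hfus : ∀ g : G, g * x ^ (2 * t + 1) * g⁻¹ = x ^ (2 * u + 1) →
      conjA g (below D e x) ≠ below D e x := by
    intro g hg hfix
    have hle : ∀ v, SLE 2 (Subgroup.zpowers (x ^ (2 * v + 1))) (below D e x) D e := fun v => by
      have := sle_below (M := M) hP.pair (pow_mem h.mem_x (2 * v + 1))
      rwa [below_odd h] at this
    rcases h.eq_or_eq_inv_of_fused hM hP hno (Subgroup.npow_mem_zpowers x _)
      (hg ▸ Subgroup.npow_mem_zpowers x _) (hle t) (hg ▸ hle u) hfix with h3 | h3 <;>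
      rw [hg] at h3
    · have := h.pow_inj (by omega) (by omega) h3
      omega
    · rw [← h.inv_pow, h.inv_odd ht] at h3
      have := h.pow_inj (by omega) (by omega) h3
      omega
  have h3 := sum_colOf_mul_conj hM hB (hpair t) (hpair u) hfus
  simp only [colOf_odd h T, map_mul, map_natCast, conj_topVal hB h hP hζ T _ hu] at h3
  refine mul_left_cancel₀ (mul_ne_zero hdeg hdeg) ?_
  rw [mul_zero, Finset.mul_sum, ← h3]
  exact Finset.sum_congr rfl fun χ _ => by ring

/-- The coordinates of the top column in the real basis. -/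
structure Coords (B : Set (IrrCharacter G)) [Fintype B] {f : MonoidAlgebra (ResField M) G}
    (T : TopData M B f x q ζ) where
  coeff : IrrCharacter G → ℕ → ℤ
  value : ∀ χ ∈ B, ∀ t < q, topVal T χ t = (coeff χ 0 : ℂ) +
    ∑ i ∈ Finset.Ico 1 (q / 2), (coeff χ i : ℂ) * eta ζ i (2 * t + 1)
  norm_zero : ∑ χ ∈ B.toFinset, coeff χ 0 * coeff χ 0 = 4
  norm_pos : ∀ i, 1 ≤ i → i < q / 2 → ∀ k, 1 ≤ k → k < q / 2 →
    ∑ χ ∈ B.toFinset, coeff χ i * coeff χ k = if i = k then 2 else 0
  orth_zero : ∀ i, 1 ≤ i → i < q / 2 → ∑ χ ∈ B.toFinset, coeff χ 0 * coeff χ i = 0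
  odd : ∀ χ ∈ B, blockHeight 2 B (χ : G → ℂ) = 0 → ¬ (2 : ℤ) ∣ coeff χ 0

theorem exists_coords (hM : IsPModular 2 M) (hB : IsPBlock M B) [Fintype B] (h : Dih D x s q)
    (hP : PairOf 2 (ebar hB) D e) (hno : NoExt 2 D e) (hζ : IsPrimitiveRoot ζ (2 * q))
    (T : TopData M B (below D e x) x q ζ) : Nonempty (Coords B T) := by
  obtain ⟨k, hk⟩ := h.isPow
  have hq := h.two_le
  have hk2 : 2 ∣ q := by
    rcases k with _ | k
    · omega
    · exact ⟨2 ^ k, by rw [hk, pow_succ']⟩
  have hprim : ∀ t, IsPrimitiveRoot (ζ ^ (2 * t + 1)) (2 ^ (k + 1)) := fun t => by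
    rw [show (2 : ℕ) ^ (k + 1) = 2 * q by rw [hk, pow_succ']]
    refine hζ.pow_of_coprime _ ?_
    rw [hk, ← pow_succ']
    exact Nat.Coprime.pow_right _ ((Nat.coprime_two_right).2 ⟨t, rfl⟩)
  choose R hRdeg hR using fun χ : IrrCharacter G =>
    CfsgLib.BlockRank.exists_reduced k (T.poly χ)
  let r : IrrCharacter G → ℕ → ℤ := fun χ i => (R χ).coeff i
  have ha : ∀ χ : IrrCharacter G, ∀ t : ℕ,
      topVal T χ t = ∑ i ∈ Finset.range q, (r χ i : ℂ) * (ζ ^ (2 * t + 1)) ^ i := by
    intro χ t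
    rw [topVal, ← hR χ _ (hprim t), Polynomial.aeval_eq_sum_range' (hk ▸ hRdeg χ)]
    simp [r, zsmul_eq_mul]
  have hgram : ∀ i < q, ∀ l < q, ∑ χ ∈ B.toFinset, r χ i * r χ l =
      2 * ((if i = l then 1 else 0) +
        ((if i + l = 0 then 1 else 0) - if i + l = q then 1 else 0)) := fun i hi l hl =>
    gram_coeff B.toFinset (by omega) hζ r (fun χ t => topVal T χ t) (fun χ _ t _ => ha χ t)
      (fun t ht u hu => sum_topVal hM hB h hP hno hζ T ht hu) hi hl
  have hmid : ∀ χ ∈ B, r χ (q / 2) = 0 := by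
    intro χ hχ
    have h1 := hgram (q / 2) (by omega) (q / 2) (by omega)
    rw [if_pos rfl, if_neg (by omega), if_pos (by omega)] at h1
    exact mul_self_eq_zero.1 ((Finset.sum_eq_zero_iff_of_nonneg
      fun ψ _ => mul_self_nonneg _).1 h1 χ (Set.mem_toFinset.2 hχ))
  have hanti : ∀ χ ∈ B, ∀ i, 1 ≤ i → i < q / 2 → r χ (q - i) = - r χ i := by
    intro χ hχ i hi1 hi
    have h1 := hgram i (by omega) i (by omega)
    have h2 := hgram (q - i) (by omega) (q - i) (by omega)
    have h3 := hgram i (by omega) (q - i) (by omega)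
    rw [if_pos rfl, if_neg (by omega), if_neg (by omega)] at h1 h2
    rw [if_neg (by omega), if_neg (by omega), if_pos (by omega)] at h3
    have h4 : ∑ ψ ∈ B.toFinset, (r ψ (q - i) + r ψ i) * (r ψ (q - i) + r ψ i) = 0 := by
      rw [Finset.sum_congr rfl (g := fun ψ => r ψ (q - i) * r ψ (q - i) + r ψ i * r ψ i +
        (r ψ i * r ψ (q - i) + r ψ i * r ψ (q - i))) fun ψ _ => by ring,
        Finset.sum_add_distrib, Finset.sum_add_distrib, Finset.sum_add_distrib, h1, h2, h3]
      ring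
    exact eq_neg_of_add_eq_zero_left (mul_self_eq_zero.1 ((Finset.sum_eq_zero_iff_of_nonneg
      fun ψ _ => mul_self_nonneg _).1 h4 χ (Set.mem_toFinset.2 hχ)))
  have hval : ∀ χ ∈ B, ∀ t < q, topVal T χ t = (r χ 0 : ℂ) +
      ∑ i ∈ Finset.Ico 1 (q / 2), (r χ i : ℂ) * eta ζ i (2 * t + 1) := by
    intro χ hχ t _
    rw [ha, Finset.range_eq_Ico, Finset.sum_eq_sum_Ico_succ_bot (by omega : 0 < q), pow_zero,
      mul_one, ← Finset.sum_Ico_consecutive _ (by omega : 1 ≤ q / 2) (by omega : q / 2 ≤ q),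
      Finset.sum_eq_sum_Ico_succ_bot (by omega : q / 2 < q), hmid χ hχ, Int.cast_zero, zero_mul,
      zero_add]
    congr 1
    have h2 : ∑ i ∈ Finset.Ico (q / 2 + 1) q, (r χ i : ℂ) * (ζ ^ (2 * t + 1)) ^ i =
        ∑ i ∈ Finset.Ico 1 (q / 2), (r χ i : ℂ) * conj ((ζ ^ (2 * t + 1)) ^ i) := by
      refine Finset.sum_bij (fun i _ => q - i) (fun i hi => ?_) (fun a ha b hb hab => ?_)
        (fun b hb => ?_) (fun i hi => ?_)
      · rw [Finset.mem_Ico] at hi ⊢; omega
      · rw [Finset.mem_Ico] at ha hb; omega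
      · rw [Finset.mem_Ico] at hb
        exact ⟨q - b, Finset.mem_Ico.2 (by omega), by omega⟩
      · rw [Finset.mem_Ico] at hi
        have h1 := hanti χ hχ (q - i) (by omega) (by omega)
        rw [show q - (q - i) = i by omega] at h1
        rw [h1, Int.cast_neg, map_pow, conj_root_pow (by omega) hζ, neg_mul, ← mul_neg]
        congr 1
        rw [inv_pow, eq_comm]
        refine inv_eq_of_mul_eq_one_right ?_
        have hw : (ζ ^ (2 * t + 1)) ^ q = -1 := by
          rw [← pow_mul, mul_comm, pow_mul, root_pow_half (by omega) hζ, Odd.neg_one_pow ⟨t, rfl⟩]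
        rw [mul_neg, ← pow_add, show q - i + i = q by omega, hw, neg_neg]
    rw [h2, ← Finset.sum_add_distrib]
    refine Finset.sum_congr rfl fun i _ => ?_
    rw [eta, ← mul_add, ← pow_mul, mul_comm i]
  refine ⟨⟨r, hval, ?_, fun i hi1 hi l hl1 hl => ?_, fun i hi1 hi => ?_, fun χ hχ hh => ?_⟩⟩
  · rw [hgram 0 (by omega) 0 (by omega)]
    simp [show ¬ (0 = q) by omega]
  · rw [hgram i (by omega) l (by omega), if_neg (by omega : ¬ i + l = 0),
      if_neg (by omega : ¬ i + l = q)]
    split_ifs <;> norm_num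
  · rw [hgram 0 (by omega) i (by omega), if_neg (by omega), if_neg (by omega), if_neg (by omega)]
    norm_num
  · intro hdvd
    refine T.parity χ hχ ?_ ?_
    · rw [CfsgLib.BlockReg.blockHeight_eq] at hh
      have := CfsgLib.BlockReg.minExp_le (p := 2) hχ
      omega
    have h0 := hval χ hχ 0 (by omega)
    have hmem : MemLocalIdeal M (topVal T χ 0) := by
      rw [h0]
      refine CfsgLib.BlockReg.memIdeal_add hM
        ((CfsgLib.BlockReg.memIdeal_intCast_iff hM _).2 hdvd)
        (CfsgLib.BlockReg.memIdeal_sum hM _ fun i _ => ?_)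
      exact CfsgLib.BlockReg.memIdeal_mul_left hM (CfsgLib.BlockReg.memRing_intCast hM _)
        (memLocalIdeal_eta hM hk hζ i _)
    have hcongr : ∀ P : ℤ[X],
        MemLocalIdeal M (aeval (ζ ^ (2 * 0 + 1)) P - ((P.eval 1 : ℤ) : ℂ)) := by
      intro P
      induction P using Polynomial.induction_on' with
      | add P P' hP' hP'' =>
        rw [map_add, Polynomial.eval_add, Int.cast_add, add_sub_add_comm]
        exact CfsgLib.BlockReg.memIdeal_add hM hP' hP''
      | monomial i a =>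
        rw [aeval_monomial, Polynomial.eval_monomial, one_pow, mul_one, eq_intCast, ← mul_sub_one]
        refine CfsgLib.BlockReg.memIdeal_mul_left hM (CfsgLib.BlockReg.memRing_intCast hM a) ?_
        rw [← geom_sum_mul]
        refine CfsgLib.BlockReg.memIdeal_mul_left hM (CfsgLib.BlockReg.memRing_algInt hM
          (IsIntegral.sum _ fun j _ => (isIntegral_root_pow (by omega) hζ _).pow j)) ?_
        exact CfsgLib.BlockRank.memLocalIdeal_sub_one hM (hprim 0)
    have h4 := CfsgLib.BlockReg.memIdeal_sub hM hmem (hcongr (T.poly χ))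
    rw [topVal, sub_sub_cancel] at h4
    exact_mod_cast (CfsgLib.BlockReg.memIdeal_intCast_iff hM _).1 h4

end CfsgLib.DihBlocks
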