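import Cfsg.Agent.Lib.DihedralBlocks.CycloReal

/-!
# Counting with orthogonal integral columns
-/

set_option autoImplicit false

open Finset

namespace CfsgLib.DihBlocks

variable {κ : Type*}

/-- A row of orthogonal columns of norm two has at most one entry, when a further column
orthogonal to them has no zero entry. -/
theorem row_sq_le (S : Finset κ) (I : Finset ℕ) (c : κ → ℕ → ℤ) (v : κ → ℤ)
    (hgram : ∀ i ∈ I, ∀ k ∈ I, ∑ χ ∈ S, c χ i * c χ k = if i = k then 2 else 0)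
    (horth : ∀ i ∈ I, ∑ χ ∈ S, v χ * c χ i = 0) (hv : ∀ χ ∈ S, v χ ≠ 0) :
    ∀ χ ∈ S, ∑ i ∈ I, c χ i * c χ i ≤ 1 := by
  classical
  intro χ hχ
  by_contra hcon
  set N := ∑ i ∈ I, c χ i * c χ i with hN
  let w : κ → ℤ := fun ψ => ∑ i ∈ I, c χ i * c ψ i
  have hw2 : ∑ ψ ∈ S, w ψ * w ψ = 2 * N := by
    simp only [w, sum_mul_sum]
    rw [sum_comm, hN, mul_sum]
    refine sum_congr rfl fun i hi => ?_
    rw [sum_comm, sum_congr rfl (g := fun k => c χ i * c χ k * if i = k then 2 else 0) fun k hk => by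
      rw [← hgram i hi k hk, mul_sum]
      exact sum_congr rfl fun ψ _ => by ring]
    simp only [mul_ite, mul_zero, sum_ite_eq, if_pos hi]
    ring
  have hwv : ∑ ψ ∈ S, v ψ * w ψ = 0 := by
    simp only [w, mul_sum]
    rw [sum_comm]
    refine sum_eq_zero fun i hi => ?_
    rw [sum_congr rfl (g := fun ψ => c χ i * (v ψ * c ψ i)) fun ψ _ => by ring, ← mul_sum,
      horth i hi, mul_zero]
  rw [← add_sum_erase S _ hχ, show w χ = N from rfl] at hw2 hwv
  have h0 : ∀ ψ ∈ S.erase χ, 0 ≤ w ψ * w ψ := fun ψ _ => mul_self_nonneg _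
  have hpos := sum_nonneg h0
  have hN2 : 2 ≤ N := by omega
  have hN3 : N ≤ 2 := by nlinarith
  have hNeq : N = 2 := by omega
  have hzero : ∀ ψ ∈ S.erase χ, w ψ * w ψ = 0 :=
    (sum_eq_zero_iff_of_nonneg h0).1 (by rw [hNeq] at hw2; omega)
  rw [sum_eq_zero fun ψ hψ => by rw [mul_self_eq_zero.1 (hzero ψ hψ), mul_zero], add_zero] at hwv
  rcases mul_eq_zero.1 hwv with h | h
  · exact hv χ hχ h
  · omega

/-- The number of rows. -/
theorem count_rows [DecidableEq κ] (S H : Finset κ) (hHS : H ⊆ S) (hcard : H.card = 4) {m : ℕ}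
    (hm : 1 ≤ m) (c : κ → ℕ → ℤ) (v : κ → ℤ)
    (hnorm : ∀ i ∈ Ico 1 m, ∑ χ ∈ S, c χ i * c χ i = 2)
    (horth : ∀ i ∈ Ico 1 m, ∑ χ ∈ S, v χ * c χ i = 0)
    (hrow : ∀ χ ∈ S, ∑ i ∈ Ico 1 m, c χ i * c χ i ≤ 1)
    (hex : ∀ χ ∈ H, ∀ i ∈ Ico 1 m, c χ i = 0)
    (hsum : ∑ χ ∈ S, v χ * v χ = 8 * (m : ℤ)) (hv : ∀ χ ∈ S, v χ ≠ 0)
    (hodd : ∀ χ ∈ H, ¬ (2 : ℤ) ∣ v χ) (heven : ∀ χ ∈ S, χ ∉ H → (2 : ℤ) ∣ v χ) :
    S.card = 2 * m + 3 ∧ ∀ χ ∈ S, χ ∉ H → v χ = 2 ∨ v χ = -2 := by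
  set T := S \ H with hT
  let P : ℕ → Finset κ := fun i => T.filter fun χ => c χ i ≠ 0
  have hle1 : ∀ χ ∈ S, ∀ i ∈ Ico 1 m, c χ i * c χ i ≤ 1 := fun χ hχ i hi =>
    (single_le_sum (f := fun l => c χ l * c χ l) (fun l _ => mul_self_nonneg _) hi).trans
      (hrow χ hχ)
  have hfour : ∀ χ ∈ T, 4 ≤ v χ * v χ := by
    intro χ hχ
    rw [hT, mem_sdiff] at hχ
    obtain ⟨u, hu⟩ := heven χ hχ.1 hχ.2
    have hu0 : u ≠ 0 := fun h => hv χ hχ.1 (by rw [hu, h, mul_zero])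
    have := mul_self_pos.2 hu0
    rw [hu, show 2 * u * (2 * u) = 4 * (u * u) by ring]
    omega
  have hP : ∀ i ∈ Ico 1 m, (P i).card = 2 := by
    intro i hi
    have h2 : ∑ χ ∈ P i, c χ i * c χ i = 2 := by
      rw [← hnorm i hi]
      refine sum_subset (fun χ hχ => (mem_sdiff.1 (mem_filter.1 hχ).1).1) fun χ hχ hχP => ?_
      by_cases hH : χ ∈ H
      · rw [hex χ hH i hi, mul_zero]
      · have : c χ i = 0 := by
          by_contra hne
          exact hχP (mem_filter.2 ⟨mem_sdiff.2 ⟨hχ, hH⟩, hne⟩)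
        rw [this, mul_zero]
    rw [sum_congr rfl (g := fun _ => (1 : ℤ)) fun χ hχ => by
      obtain ⟨hχT, hne⟩ := mem_filter.1 hχ
      have := mul_self_pos.2 hne
      have := hle1 χ (mem_sdiff.1 hχT).1 i hi
      omega] at h2
    simp only [sum_const, nsmul_eq_mul, mul_one] at h2
    exact_mod_cast h2
  have hdisj : (Ico 1 m : Set ℕ).PairwiseDisjoint P := by
    intro i hi k hk hik
    rw [Function.onFun, disjoint_left]
    intro χ h1 h2
    obtain ⟨hχT, hne1⟩ := mem_filter.1 h1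
    obtain ⟨-, hne2⟩ := mem_filter.1 h2
    have hsub := sum_le_sum_of_subset_of_nonneg (f := fun l => c χ l * c χ l)
      (insert_subset (mem_coe.1 hi) (singleton_subset_iff.2 (mem_coe.1 hk)))
      fun l _ _ => mul_self_nonneg _
    rw [sum_pair hik] at hsub
    have := mul_self_pos.2 hne1
    have := mul_self_pos.2 hne2
    have := hrow χ (mem_sdiff.1 hχT).1
    omega
  set U := (Ico 1 m).biUnion P with hU
  have hUT : U ⊆ T := biUnion_subset.2 fun i _ => filter_subset _ _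
  have hUcard : U.card = 2 * (m - 1) := by
    rw [hU, card_biUnion hdisj, sum_congr rfl hP, sum_const, Nat.card_Ico, smul_eq_mul, mul_comm]
  -- the squares on a pair
  have hb : ∀ i ∈ Ico 1 m, ∃ b : ℤ, 1 ≤ b ∧ ∑ χ ∈ P i, v χ * v χ = 8 * b ∧
      (b = 1 → ∀ χ ∈ P i, v χ * v χ = 4) := by
    intro i hi
    obtain ⟨α, β, hαβ, hPi⟩ := card_eq_two.1 (hP i hi)
    have hα : α ∈ P i := by rw [hPi]; exact mem_insert_self _ _
    have hβ : β ∈ P i := by rw [hPi]; exact mem_insert_of_mem (mem_singleton_self _)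
    have h0 := horth i hi
    rw [← sum_subset (s₁ := P i) (fun χ hχ => (mem_sdiff.1 (mem_filter.1 hχ).1).1) fun χ hχ hχP => by
      by_cases hH : χ ∈ H
      · rw [hex χ hH i hi, mul_zero]
      · have : c χ i = 0 := by
          by_contra hne
          exact hχP (mem_filter.2 ⟨mem_sdiff.2 ⟨hχ, hH⟩, hne⟩)
        rw [this, mul_zero], hPi, sum_pair hαβ] at h0
    have hone : ∀ {χ}, χ ∈ P i → c χ i * c χ i = 1 := fun {χ} hχ => by
      obtain ⟨hχT, hne⟩ := mem_filter.1 hχ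
      have := mul_self_pos.2 hne
      have := hle1 χ (mem_sdiff.1 hχT).1 i hi
      omega
    have heq : v α * v α = v β * v β := by
      have h1 : v α * c α i = -(v β * c β i) := by omega
      have h2 : v α * c α i * (v α * c α i) = v β * c β i * (v β * c β i) := by rw [h1]; ring
      linear_combination h2 - v α * v α * hone hα + v β * v β * hone hβ
    obtain ⟨hαS, hαH⟩ := mem_sdiff.1 (mem_filter.1 hα).1
    obtain ⟨u, hu⟩ := heven α hαS hαH
    refine ⟨u * u, ?_, ?_, fun hu1 => ?_⟩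
    · have : u ≠ 0 := fun h => hv α hαS (by rw [hu, h, mul_zero])
      have := mul_self_pos.2 this
      omega
    · rw [hPi, sum_pair hαβ, ← heq, hu]; ring
    · intro χ hχ
      rw [hPi, mem_insert, mem_singleton] at hχ
      rcases hχ with rfl | rfl
      · rw [hu]; linear_combination 4 * hu1
      · rw [← heq, hu]; linear_combination 4 * hu1
  choose! b hb1 hbs hb4 using hb
  have hUsum : ∑ χ ∈ U, v χ * v χ = 8 * ∑ i ∈ Ico 1 m, b i := by
    rw [hU, sum_biUnion hdisj, sum_congr rfl hbs, mul_sum]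
  obtain ⟨a, ha0, ha⟩ : ∃ a : ℤ, 0 ≤ a ∧ ∑ χ ∈ H, v χ * v χ = 4 + 8 * a := by
    have h8 : ∀ χ ∈ H, ∃ t : ℤ, 0 ≤ t ∧ v χ * v χ = 1 + 8 * t := by
      intro χ hχ
      obtain ⟨u, hu⟩ := Int.not_even_iff_odd.1 fun h => hodd χ hχ (even_iff_two_dvd.1 h)
      obtain ⟨t, ht⟩ := Int.even_mul_succ_self u
      refine ⟨t, ?_, by rw [hu]; linear_combination 4 * ht⟩
      rcases le_or_gt 0 u with h | h <;> nlinarith
    choose! t ht0 ht using h8
    refine ⟨∑ χ ∈ H, t χ, sum_nonneg ht0, ?_⟩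
    rw [sum_congr rfl ht, sum_add_distrib, sum_const, hcard, ← mul_sum]
    simp
  set R := T \ U with hR
  have hRsum : ∑ χ ∈ R, v χ * v χ = 8 * (m : ℤ) - 4 - 8 * a - 8 * ∑ i ∈ Ico 1 m, b i := by
    have h1 := sum_sdiff (f := fun χ => v χ * v χ) hHS
    have h2 := sum_sdiff (f := fun χ => v χ * v χ) hUT
    rw [← hR] at h2
    rw [← hT] at h1
    omega
  have hbge : ((m : ℤ) - 1) ≤ ∑ i ∈ Ico 1 m, b i := by
    refine le_trans ?_ (sum_le_sum fun i hi => hb1 i hi)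
    rw [sum_const, Nat.card_Ico, nsmul_eq_mul, mul_one, Nat.cast_sub hm, Nat.cast_one]
  have hR4 : 4 * (R.card : ℤ) ≤ ∑ χ ∈ R, v χ * v χ := by
    refine le_trans ?_ (sum_le_sum fun χ hχ => hfour χ (mem_sdiff.1 hχ).1)
    rw [sum_const, nsmul_eq_mul, mul_comm]
  have hRpos : R.card ≠ 0 := fun h0 => by
    rw [card_eq_zero.1 h0, sum_empty] at hRsum
    omega
  have hR1 : R.card = 1 := by omega
  refine ⟨?_, fun χ hχ hχH => ?_⟩
  · have h1 := card_sdiff_add_card_eq_card hHS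
    have h2 := card_sdiff_add_card_eq_card hUT
    rw [← hT, hcard] at h1
    rw [← hR, hR1, hUcard] at h2
    omega
  have hχT : χ ∈ T := mem_sdiff.2 ⟨hχ, hχH⟩
  have hval : v χ * v χ = 4 := by
    by_cases hχU : χ ∈ U
    · obtain ⟨i, hi, hχi⟩ := mem_biUnion.1 hχU
      refine hb4 i hi ?_ χ hχi
      have hrest : ((m : ℤ) - 1) - 1 ≤ ∑ k ∈ (Ico 1 m).erase i, b k := by
        refine le_trans ?_ (sum_le_sum fun k hk => hb1 k (mem_of_mem_erase hk))
        rw [sum_const, card_erase_of_mem hi, Nat.card_Ico, nsmul_eq_mul, mul_one]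
        have := (mem_Ico.1 hi)
        omega
      have := add_sum_erase (Ico 1 m) b hi
      have := hb1 i hi
      omega
    · obtain ⟨r, hr⟩ := card_eq_one.1 hR1
      have : χ = r := mem_singleton.1 (hr ▸ mem_sdiff.2 ⟨hχT, hχU⟩)
      rw [this]
      rw [hr, sum_singleton] at hRsum
      have := hfour r (mem_sdiff.1 (hr ▸ mem_singleton_self r : r ∈ R)).1
      omega
  exact mul_self_eq_mul_self_iff.1 (by rw [hval]; rfl)

end CfsgLib.DihBlocks
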