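import Cfsg.Agent.Lib.DihedralBlocks.CycloReal
import Cfsg.Agent.Lib.Blocks.Local
import Cfsg.Agent.Lib.BlockReg.LocalRing

/-!
# The coordinate vectors of the top column avoid the characters of height zero

Four rows carry `± 1` in the coordinate zero.  If one of them carried a further coordinate, a
weighted sum of the congruences for the products of four values would make a unit lie in `M`.
-/

set_option autoImplicit false
set_option maxHeartbeats 1600000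

open Cfsg CfsgLib.BlockReg Finset

namespace CfsgLib.DihBlocks

theorem no_exceptional {M : Ideal AlgInt} [M.IsMaximal] (hM : IsPModular 2 M) {q k : ℕ} {ζ : ℂ}
    (hqk : q = 2 ^ k) (hq4 : 4 ≤ q) (hζ : IsPrimitiveRoot ζ (2 * q))
    {κ : Type*} [DecidableEq κ] (S H : Finset κ) (hHS : H ⊆ S) (hcard : H.card = 4)
    (c : κ → ℕ → ℤ) (hu : ∀ χ ∈ H, c χ 0 = 1 ∨ c χ 0 = -1)
    (hzero : ∀ χ ∈ S, χ ∉ H → c χ 0 = 0)
    (hnorm : ∀ i, 1 ≤ i → i < q / 2 → ∑ χ ∈ S, c χ i * c χ i = 2)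
    (horth : ∀ i, 1 ≤ i → i < q / 2 → ∑ χ ∈ S, c χ 0 * c χ i = 0)
    (hrow : ∀ χ ∈ H, ∑ i ∈ Ico 1 (q / 2), c χ i * c χ i ≤ 1)
    (a : κ → ℕ → ℂ) (ha : ∀ χ ∈ S, ∀ t < q / 2, a χ t = (c χ 0 : ℂ) +
      ∑ i ∈ Ico 1 (q / 2), (c χ i : ℂ) * eta ζ i (2 * t + 1))
    (d : κ → ℕ) (hd : ∀ χ ∈ H, ¬ 2 ∣ d χ) (J : ℕ) (w : κ → ℂ)
    (hw : ∀ χ ∈ H, w χ = 2 * (J : ℂ) ^ 2 / ((q : ℂ) * (d χ : ℂ) ^ 2))
    (Φ : ℂ) (hΦ : MemLocalRing M Φ) (hΦ' : ¬ MemLocalIdeal M Φ)
    (hkey : ∀ t < q / 2, MemLocalIdeal M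
      (Φ * (∑ χ ∈ S, w χ * (a χ 0 ^ 3 * a χ t) - if t ≤ 1 then 1 else 0))) :
    ∀ χ ∈ H, ∀ i, 1 ≤ i → i < q / 2 → c χ i = 0 := by
  intro χ₁ h₁ i hi hiq
  by_contra hne1
  have hq1 : 1 ≤ q := by omega
  have hk2 : 2 ∣ q := by
    rcases k with _ | k
    · omega
    · exact ⟨2 ^ k, by rw [hqk, pow_succ']⟩
  have hiI : i ∈ Ico 1 (q / 2) := mem_Ico.2 ⟨hi, hiq⟩
  -- the rows
  have hone : ∀ χ ∈ H, ∀ j ∈ Ico 1 (q / 2), c χ j ≠ 0 →
      (c χ j = 1 ∨ c χ j = -1) ∧ ∀ l ∈ Ico 1 (q / 2), l ≠ j → c χ l = 0 := by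
    intro χ hχ j hj hne
    have hpos : 0 < c χ j * c χ j := mul_self_pos.2 hne
    have hle : c χ j * c χ j ≤ 1 :=
      (single_le_sum (f := fun l => c χ l * c χ l) (fun l _ => mul_self_nonneg _) hj).trans
        (hrow χ hχ)
    refine ⟨mul_self_eq_one_iff.1 (by omega), fun l hl hlj => ?_⟩
    by_contra hl0
    have hlpos : 0 < c χ l * c χ l := mul_self_pos.2 hl0
    have hsub := sum_le_sum_of_subset_of_nonneg (f := fun l => c χ l * c χ l)
      (insert_subset hj (singleton_subset_iff.2 hl)) fun l _ _ => mul_self_nonneg _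
    rw [sum_pair (Ne.symm hlj)] at hsub
    have := hrow χ hχ
    omega
  obtain ⟨χ₂, h₂, h21, hne2⟩ : ∃ χ ∈ H, χ ≠ χ₁ ∧ c χ i ≠ 0 := by
    by_contra hcon
    push Not at hcon
    have h0 := horth i hi hiq
    rw [sum_eq_single χ₁ (fun χ hχS hne => ?_) (fun h => absurd (hHS h₁) h)] at h0
    · rcases mul_eq_zero.1 h0 with h | h
      · rcases hu χ₁ h₁ with h' | h' <;> omega
      · exact hne1 h
    · by_cases hχH : χ ∈ H
      · rw [hcon χ hχH hne, mul_zero]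
      · rw [hzero χ hχS hχH, zero_mul]
  obtain ⟨hv1, hr1⟩ := hone χ₁ h₁ i hiI hne1
  obtain ⟨hv2, hr2⟩ := hone χ₂ h₂ i hiI hne2
  have hoth : ∀ χ ∈ S, χ ≠ χ₁ → χ ≠ χ₂ → c χ i = 0 := by
    intro χ hχ hn1 hn2
    by_contra h0
    have h3 := mul_self_pos.2 h0
    have hsub := sum_le_sum_of_subset_of_nonneg (f := fun ψ => c ψ i * c ψ i)
      (insert_subset (hHS h₁) (insert_subset (hHS h₂) (singleton_subset_iff.2 hχ)))
      fun ψ _ _ => mul_self_nonneg _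
    rw [sum_insert (by simp [h21.symm, hn1.symm]), sum_pair hn2.symm, hnorm i hi hiq] at hsub
    have h1 : c χ₁ i * c χ₁ i = 1 := mul_self_eq_one_iff.2 hv1
    have h2 : c χ₂ i * c χ₂ i = 1 := mul_self_eq_one_iff.2 hv2
    omega
  obtain ⟨χ₃, χ₄, h34, hrest⟩ : ∃ χ₃ χ₄, χ₃ ≠ χ₄ ∧ (H.erase χ₁).erase χ₂ = {χ₃, χ₄} :=
    card_eq_two.1 (by
      rw [card_erase_of_mem (mem_erase.2 ⟨h21, h₂⟩), card_erase_of_mem h₁, hcard])
  have hm3 : χ₃ ≠ χ₂ ∧ χ₃ ≠ χ₁ ∧ χ₃ ∈ H := by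
    have : χ₃ ∈ (H.erase χ₁).erase χ₂ := by rw [hrest]; exact mem_insert_self _ _
    simpa [mem_erase] using this
  have hm4 : χ₄ ≠ χ₂ ∧ χ₄ ≠ χ₁ ∧ χ₄ ∈ H := by
    have : χ₄ ∈ (H.erase χ₁).erase χ₂ := by
      rw [hrest]; exact mem_insert_of_mem (mem_singleton_self _)
    simpa [mem_erase] using this
  have hz3 : c χ₃ i = 0 := hoth χ₃ (hHS hm3.2.2) hm3.2.1 hm3.1
  have hz4 : c χ₄ i = 0 := hoth χ₄ (hHS hm4.2.2) hm4.2.1 hm4.1
  have hsumH : ∀ F : κ → ℂ, ∑ χ ∈ H, F χ = F χ₁ + (F χ₂ + (F χ₃ + F χ₄)) := fun F => by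
    rw [← add_sum_erase H F h₁, ← add_sum_erase (H.erase χ₁) F (mem_erase.2 ⟨h21, h₂⟩), hrest,
      sum_pair h34]
  -- the cyclotomic numbers
  obtain ⟨A, B', hA, hB', h2A, h2B⟩ := two_dvd_eta hqk hζ hi hiq
  set η := eta ζ i 1 with hη
  set l := eta ζ (2 * i) 1 - 2 with hl
  have hη2 : η ^ 2 = l + 4 := eta_sq hq1 hζ i
  have hlint : IsIntegral ℤ (eta ζ (2 * i) 1) := isIntegral_eta hq1 hζ _ _
  set W := etaQuot (eta ζ (2 * i) 1) with hW
  have hodd : ∀ t, eta ζ i (2 * t + 1) = η * (1 + l * W t) := fun t => eta_odd_eq hq1 hζ i t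
  have hη0 : η ≠ 0 := fun h => two_ne_zero (by rw [h2B, h, zero_mul] : (2 : ℂ) = 0)
  have hqhalf : (q : ℂ) = 2 * ((q / 2 : ℕ) : ℂ) := by
    exact_mod_cast (Nat.mul_div_cancel' hk2).symm
  have hSW : ∑ t ∈ range (q / 2), W t = -((q : ℂ) * A) / 4 := by
    have h0 := sum_half_eta hk2 hζ hi (by omega : i < q)
    simp only [hodd, ← mul_sum, sum_add_distrib, sum_const, card_range, nsmul_eq_mul, mul_one] at h0
    have h1 := (mul_eq_zero.1 h0).resolve_left hη0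
    linear_combination (A / 2) * h1 + (∑ t ∈ range (q / 2), W t) / 2 * h2A + A / 4 * hqhalf
  have hSWl : ∀ j ∈ Ico 1 (q / 2), ∑ t ∈ range (q / 2), W t * eta ζ j (2 * t + 1) =
      if i = j then (q : ℂ) * A * B' / 4 else 0 := by
    intro j hj
    rw [mem_Ico] at hj
    have h0 := sum_half_eta_mul hk2 hζ hi hiq hj.1 hj.2
    have hj0 := sum_half_eta hk2 hζ hj.1 (by omega : j < q)
    have h1 : η * l * ∑ t ∈ range (q / 2), W t * eta ζ j (2 * t + 1) =
        if i = j then (q : ℂ) else 0 := by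
      rw [← h0, mul_sum, ← sub_eq_zero, ← sum_sub_distrib]
      calc ∑ t ∈ range (q / 2), (η * l * (W t * eta ζ j (2 * t + 1)) -
            eta ζ i (2 * t + 1) * eta ζ j (2 * t + 1))
          = -η * ∑ t ∈ range (q / 2), eta ζ j (2 * t + 1) := by
            rw [mul_sum]
            exact sum_congr rfl fun t _ => by rw [hodd]; ring
        _ = 0 := by rw [hj0, mul_zero]
    have h4 : (4 : ℂ) = η * l * (A * B') := by linear_combination (2 : ℂ) * h2A + l * A * h2B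
    split_ifs at h1 ⊢
    · linear_combination (A * B' / 4) * h1 +
        (∑ t ∈ range (q / 2), W t * eta ζ j (2 * t + 1)) / 4 * h4
    · linear_combination (A * B' / 4) * h1 +
        (∑ t ∈ range (q / 2), W t * eta ζ j (2 * t + 1)) / 4 * h4
  have hWa : ∀ χ ∈ S, ∑ t ∈ range (q / 2), W t * a χ t =
      (q : ℂ) * A / 4 * ((c χ i : ℂ) * B' - (c χ 0 : ℂ)) := by
    intro χ hχ
    rw [sum_congr rfl fun t ht => by rw [ha χ hχ t (mem_range.1 ht), mul_add, mul_sum],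
      sum_add_distrib, ← sum_mul, hSW, sum_comm]
    rw [sum_congr rfl (g := fun j => (c χ j : ℂ) * if i = j then (q : ℂ) * A * B' / 4 else 0)
      fun j hj => by
        rw [← hSWl j hj, mul_sum]; exact sum_congr rfl fun t _ => by ring]
    simp only [mul_ite, mul_zero, sum_ite_eq, if_pos hiI]
    ring
  have hWt : ∑ t ∈ range (q / 2), W t * (if t ≤ 1 then (1 : ℂ) else 0) = 1 := by
    rw [← sum_subset (range_subset_range.2 (by omega : 2 ≤ q / 2)) fun t _ ht => by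
      rw [mem_range] at ht; rw [if_neg (by omega), mul_zero]]
    rw [sum_range_succ, sum_range_one, hW]
    simp [etaQuot]
  -- the weighted congruence
  let X : κ → ℂ := fun χ => a χ 0 ^ 3 * ((c χ i : ℂ) * B' - (c χ 0 : ℂ))
  have hsum : MemLocalIdeal M (Φ * (∑ χ ∈ H, w χ * ((q : ℂ) * A / 4 * X χ) - 1)) := by
    have h0 := memIdeal_sum hM (range (q / 2)) fun t ht => memIdeal_mul_left hM
      (memRing_algInt hM (isIntegral_etaQuot hlint t)) (hkey t (mem_range.1 ht))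
    refine (congrArg (MemLocalIdeal M) ?_).mp h0
    rw [← hW]
    calc ∑ t ∈ range (q / 2), W t * (Φ * (∑ χ ∈ S, w χ * (a χ 0 ^ 3 * a χ t) -
          if t ≤ 1 then 1 else 0))
        = Φ * (∑ χ ∈ S, w χ * a χ 0 ^ 3 * ∑ t ∈ range (q / 2), W t * a χ t -
            ∑ t ∈ range (q / 2), W t * (if t ≤ 1 then (1 : ℂ) else 0)) := by
          simp only [mul_sum, mul_sub, sum_sub_distrib]
          congr 1
          · rw [sum_comm]
            exact sum_congr rfl fun χ _ => sum_congr rfl fun t _ => by ring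
          · exact sum_congr rfl fun t _ => by ring
      _ = _ := by
          rw [hWt, ← sum_subset hHS fun χ hχ hχH => by
            rw [hWa χ hχ, hzero χ hχ hχH,
              hoth χ hχ (fun h => hχH (h ▸ h₁)) (fun h => hχH (h ▸ h₂))]
            simp]
          congr 2
          exact sum_congr rfl fun χ hχ => by rw [hWa χ (hHS hχ)]; ring
  -- the four terms
  let E : κ → ℂ := fun χ => ∑ j ∈ Ico 1 (q / 2), (c χ j : ℂ) * eta ζ j 1
  have ha0 : ∀ χ ∈ S, a χ 0 = (c χ 0 : ℂ) + E χ := fun χ hχ => by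
    rw [ha χ hχ 0 (by omega)]
  have hE1 : E χ₁ = (c χ₁ i : ℂ) * η :=
    sum_eq_single i (fun j hj hji => by rw [hr1 j hj hji]; simp) fun h => absurd hiI h
  have hE2 : E χ₂ = (c χ₂ i : ℂ) * η :=
    sum_eq_single i (fun j hj hji => by rw [hr2 j hj hji]; simp) fun h => absurd hiI h
  have hpair : (c χ₁ 0 : ℂ) * (c χ₁ i : ℂ) + (c χ₂ 0 : ℂ) * (c χ₂ i : ℂ) = 0 := by
    have h0 := congrArg (fun z : ℤ => (z : ℂ)) (horth i hi hiq)
    simp only [Int.cast_sum, Int.cast_mul, Int.cast_zero] at h0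
    rw [← sum_subset hHS fun χ hχ hχH => by rw [hzero χ hχ hχH]; simp, hsumH, hz3, hz4] at h0
    simpa using h0
  have h34E : (c χ₃ 0 : ℂ) * E χ₃ + (c χ₄ 0 : ℂ) * E χ₄ = 0 := by
    have h0 : ∑ χ ∈ H, (c χ 0 : ℂ) * E χ = 0 := by
      rw [sum_subset hHS fun χ hχ hχH => by rw [hzero χ hχ hχH]; simp]
      simp only [E, mul_sum, ← mul_assoc]
      rw [sum_comm]
      refine sum_eq_zero fun j hj => ?_
      have h1 := congrArg (fun z : ℤ => (z : ℂ)) (horth j (mem_Ico.1 hj).1 (mem_Ico.1 hj).2)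
      simp only [Int.cast_sum, Int.cast_mul, Int.cast_zero] at h1
      rw [← sum_mul, h1, zero_mul]
    rw [hsumH, hE1, hE2] at h0
    linear_combination h0 - η * hpair
  set e := (c χ₃ 0 : ℂ) * E χ₃ with he
  have hE4 : (c χ₄ 0 : ℂ) * E χ₄ = -e := by linear_combination h34E
  have hsgn : ∀ {u : ℤ}, u = 1 ∨ u = -1 → (u : ℂ) ^ 2 = 1 := by
    rintro u (rfl | rfl) <;> norm_num
  have hu3 := hsgn (hu _ hm3.2.2)
  have hu4 := hsgn (hu _ hm4.2.2)
  have htot : X χ₁ + (X χ₂ + (X χ₃ + X χ₄)) = -2 * l - 6 * e ^ 2 := by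
    have hX3 : X χ₃ = -(1 + e) ^ 3 := by
      have : a χ₃ 0 = (c χ₃ 0 : ℂ) * (1 + e) := by
        rw [ha0 _ (hHS hm3.2.2), he]; linear_combination (-E χ₃) * hu3
      simp only [X, this, hz3]
      push_cast
      linear_combination (-(1 + e) ^ 3 * ((c χ₃ 0 : ℂ) ^ 2 + 1)) * hu3
    have hX4 : X χ₄ = -(1 - e) ^ 3 := by
      have : a χ₄ 0 = (c χ₄ 0 : ℂ) * (1 - e) := by
        rw [ha0 _ (hHS hm4.2.2)]
        linear_combination (-E χ₄) * hu4 + (c χ₄ 0 : ℂ) * hE4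
      simp only [X, this, hz4]
      push_cast
      linear_combination (-(1 - e) ^ 3 * ((c χ₄ 0 : ℂ) ^ 2 + 1)) * hu4
    rw [hX3, hX4]
    simp only [X, ha0 _ (hHS h₁), ha0 _ (hHS h₂), hE1, hE2]
    rcases hu χ₁ h₁ with h1 | h1 <;> rcases hu χ₂ h₂ with h2 | h2 <;>
      rcases hv1 with v1 | v1 <;> rcases hv2 with v2 | v2 <;>
      rw [h1, h2, v1, v2] at hpair ⊢ <;> push_cast at hpair ⊢ <;>
      first
        | (exfalso; norm_num at hpair; done)
        | linear_combination (-6 - 2 * η ^ 2) * h2B - 2 * hη2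
  -- the contradiction
  have hEint : ∀ χ, IsIntegral ℤ (E χ) := fun χ =>
    IsIntegral.sum _ fun j _ => (isIntegral_algebraMap (R := ℤ) (A := ℂ) (x := c χ j)).mul
      (isIntegral_eta hq1 hζ _ _)
  have heM : MemLocalIdeal M e := memIdeal_mul_left hM (memRing_intCast hM _)
    (memIdeal_sum hM _ fun j _ => memIdeal_mul_left hM (memRing_intCast hM _)
      (memLocalIdeal_eta hM hqk hζ j 1))
  have hXring : ∀ χ ∈ S, MemLocalRing M (X χ) := fun χ hχ => by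
    refine memRing_mul hM (memRing_pow hM ?_ 3)
      (memRing_sub hM (memRing_mul hM (memRing_intCast hM _) (memRing_algInt hM hB'))
        (memRing_intCast hM _))
    rw [ha0 χ hχ]
    exact memRing_add hM (memRing_intCast hM _) (memRing_algInt hM (hEint χ))
  have h4M : MemLocalIdeal M (4 : ℂ) := by
    simpa using (memIdeal_natCast_iff hM 4).2 (by norm_num)
  have h2M : MemLocalIdeal M (2 : ℂ) := by
    simpa using (memIdeal_natCast_iff hM 2).2 (by norm_num)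
  have hcorr : ∀ χ ∈ H, MemLocalIdeal M
      (w χ * ((q : ℂ) * A / 4 * X χ) - (J : ℂ) ^ 2 * (A * X χ / 2)) := by
    intro χ hχ
    obtain ⟨m, hm⟩ : ∃ m : ℕ, d χ ^ 2 = 8 * m + 1 := by
      obtain ⟨v, hv⟩ : Odd (d χ) := Nat.not_even_iff_odd.1 fun h => hd χ hχ (even_iff_two_dvd.1 h)
      obtain ⟨m, hm⟩ := Nat.even_mul_succ_self v
      exact ⟨m, by rw [hv, show (2 * v + 1) ^ 2 = 4 * (v * (v + 1)) + 1 by ring, hm]; ring⟩
    have hd0 : d χ ≠ 0 := fun h => hd χ hχ (h ▸ dvd_zero 2)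
    have hmC : (d χ : ℂ) ^ 2 = 8 * (m : ℂ) + 1 := by exact_mod_cast hm
    have hdinv : MemLocalRing M (((d χ : ℕ) : ℂ)⁻¹ ^ 2) :=
      memRing_pow hM (memRing_inv_natCast hM (hd χ hχ)) 2
    have heq : w χ * ((q : ℂ) * A / 4 * X χ) - (J : ℂ) ^ 2 * (A * X χ / 2) =
        ((J : ℂ) ^ 2 * A * X χ * (-(m : ℂ)) * ((d χ : ℂ)⁻¹ ^ 2)) * 4 := by
      rw [hw χ hχ]
      have : (d χ : ℂ) ≠ 0 := Nat.cast_ne_zero.2 hd0
      have : (q : ℂ) ≠ 0 := Nat.cast_ne_zero.2 (by omega)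
      field_simp
      linear_combination (-4 * (J : ℂ) ^ 2 * A * X χ) * hmC
    rw [heq]
    exact memIdeal_mul_left hM (memRing_mul hM (memRing_mul hM (memRing_mul hM
      (memRing_mul hM (memRing_pow hM (memRing_natCast hM J) 2) (memRing_algInt hM hA))
      (hXring χ (hHS hχ))) (memRing_neg (memRing_natCast hM m))) hdinv) h4M
  have hmain : MemLocalIdeal M (∑ χ ∈ H, w χ * ((q : ℂ) * A / 4 * X χ)) := by
    have h0 := memIdeal_sum hM H hcorr
    rw [sum_sub_distrib, ← mul_sum, ← sum_div, ← mul_sum, hsumH X, htot] at h0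
    have h1 : MemLocalIdeal M ((J : ℂ) ^ 2 * (A * (-2 * l - 6 * e ^ 2) / 2)) := by
      refine memIdeal_mul_left hM (memRing_pow hM (memRing_natCast hM J) 2) ?_
      rw [show A * (-2 * l - 6 * e ^ 2) / 2 = -(2 + (3 : ℕ) * A * e * e) by
        push_cast; linear_combination h2A]
      exact memIdeal_neg (memIdeal_add hM h2M (memIdeal_mul_left hM (memRing_mul hM
        (memRing_mul hM (memRing_natCast hM 3) (memRing_algInt hM hA))
        (memIdeal_memRing heM)) heM))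
    simpa using memIdeal_add hM h0 h1
  refine hΦ' ?_
  have h2 := memIdeal_sub hM (memIdeal_mul_left hM hΦ hmain) hsum
  rwa [← mul_sub, sub_sub_cancel, mul_one] at h2

end CfsgLib.DihBlocks
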