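import Cfsg.Agent.Lib.Blocks.Pairs.Saturation
import Mathlib.GroupTheory.SpecificGroups.Dihedral
import Mathlib.GroupTheory.SpecificGroups.Cyclic

/-!
# Dihedral subgroups and the fusion of their cyclic subgroups in a block
-/

set_option autoImplicit false
set_option maxHeartbeats 800000

open Cfsg CfsgLib.Blocks CfsgLib.Blocks.Pairs
open scoped Classical

namespace CfsgLib.DihBlocks

universe u

variable {G : Type u} [Group G]

/-- `D` is dihedral of order `4 * q` with cyclic part generated by `x`. -/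
structure Dih (D : Subgroup G) (x s : G) (q : ℕ) : Prop where
  mem_x : x ∈ D
  mem_s : s ∈ D
  two_le : 2 ≤ q
  isPow : ∃ t, q = 2 ^ t
  order : orderOf x = 2 * q
  s_sq : s * s = 1
  inv : s * x * s⁻¹ = x⁻¹
  cases : ∀ d ∈ D, (∃ i : ℕ, d = x ^ i) ∨ ∃ i : ℕ, d = s * x ^ i
  s_out : s ∉ Subgroup.zpowers x
  card : Nat.card D = 4 * q

/-- A dihedral group of order `2 ^ n` gives the data. -/
theorem exists_dih {D : Subgroup G} {n : ℕ} (hn : 3 ≤ n)
    (h : Nonempty (D ≃* DihedralGroup (2 ^ (n - 1)))) :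
    ∃ x s : G, Dih D x s (2 ^ (n - 2)) := by
  obtain ⟨φ⟩ := h
  set N := 2 ^ (n - 1) with hN
  have hNq : N = 2 * 2 ^ (n - 2) := by rw [hN, ← pow_succ']; congr 1; omega
  haveI : NeZero N := ⟨pow_ne_zero _ two_ne_zero⟩
  refine ⟨(φ.symm (DihedralGroup.r 1) : D), (φ.symm (DihedralGroup.sr 0) : D),
    (φ.symm _).2, (φ.symm _).2, ?_, ⟨_, rfl⟩, ?_, ?_, ?_, fun d hd => ?_, ?_, ?_⟩
  · calc 2 = 2 ^ 1 := rfl
      _ ≤ 2 ^ (n - 2) := Nat.pow_le_pow_right (by norm_num) (by omega)
  · rw [Subgroup.orderOf_coe, MulEquiv.orderOf_eq, DihedralGroup.orderOf_r_one, hNq]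
  · rw [← Subgroup.coe_mul, ← map_mul, DihedralGroup.sr_mul_self, map_one, OneMemClass.coe_one]
  · rw [← InvMemClass.coe_inv, ← Subgroup.coe_mul, ← Subgroup.coe_mul, ← map_inv, ← map_mul,
      ← map_mul, ← InvMemClass.coe_inv, ← map_inv]
    congr 2
    simp
  · obtain ⟨a, ha⟩ : ∃ a, φ ⟨d, hd⟩ = a := ⟨_, rfl⟩
    have hd' : (⟨d, hd⟩ : D) = φ.symm a := by rw [← ha, MulEquiv.symm_apply_apply]
    cases a with
    | r i =>
      refine Or.inl ⟨i.val, ?_⟩
      rw [← SubgroupClass.coe_pow, ← map_pow, DihedralGroup.r_one_pow, ZMod.natCast_zmod_val]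
      exact congrArg Subtype.val hd'
    | sr i =>
      refine Or.inr ⟨i.val, ?_⟩
      rw [← SubgroupClass.coe_pow, ← map_pow, ← Subgroup.coe_mul, ← map_mul,
        DihedralGroup.r_one_pow, ZMod.natCast_zmod_val, DihedralGroup.sr_mul_r, zero_add]
      exact congrArg Subtype.val hd'
  · intro hmem
    obtain ⟨k, hk⟩ := Subgroup.mem_zpowers_iff.1 hmem
    rw [← SubgroupClass.coe_zpow, ← map_zpow] at hk
    have := φ.symm.injective (Subtype.ext hk)
    rw [DihedralGroup.r_zpow] at this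
    exact DihedralGroup.noConfusion rfl (heq_of_eq this)
  · rw [Nat.card_congr φ.toEquiv, DihedralGroup.nat_card, hNq]; ring

namespace Dih

variable {D : Subgroup G} {x s : G} {q : ℕ}

theorem isPGroup (h : Dih D x s q) [Finite G] : IsPGroup 2 (Subgroup.zpowers x) := by
  obtain ⟨t, ht⟩ := h.isPow
  exact IsPGroup.of_card (n := t + 1) (by rw [Nat.card_zpowers, h.order, ht, pow_succ'])

theorem zpowers_le (h : Dih D x s q) : Subgroup.zpowers x ≤ D := Subgroup.zpowers_le.2 h.mem_x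

theorem inv_pow (h : Dih D x s q) (i : ℕ) : s * x ^ i * s⁻¹ = (x ^ i)⁻¹ := by
  rw [← conj_pow, h.inv, _root_.inv_pow]

theorem sq_out (h : Dih D x s q) {d : G} (hd : d ∈ D) (hout : d ∉ Subgroup.zpowers x) :
    d * d = 1 := by
  rcases h.cases d hd with ⟨i, rfl⟩ | ⟨i, rfl⟩
  · exact absurd (Subgroup.npow_mem_zpowers x i) hout
  · have hs : s⁻¹ = s := inv_eq_of_mul_eq_one_right h.s_sq
    calc s * x ^ i * (s * x ^ i) = s * x ^ i * s⁻¹ * x ^ i := by rw [hs]; group
      _ = 1 := by rw [h.inv_pow, inv_mul_cancel]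

theorem mem_zpowers_of_order (h : Dih D x s q) {d : G} (hd : d ∈ D) (ho : 2 < orderOf d) :
    d ∈ Subgroup.zpowers x := by
  by_contra hout
  have := orderOf_le_of_pow_eq_one (n := 2) two_pos ((sq d).trans (h.sq_out hd hout))
  omega

theorem conj_eq (h : Dih D x s q) {d : G} (hd : d ∈ D) {u : G} (hu : u ∈ Subgroup.zpowers x) :
    d * u * d⁻¹ = u ∨ d * u * d⁻¹ = u⁻¹ := by
  obtain ⟨k, rfl⟩ := Subgroup.mem_zpowers_iff.1 hu
  rcases h.cases d hd with ⟨i, rfl⟩ | ⟨i, rfl⟩
  · exact Or.inl (by group)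
  · refine Or.inr ?_
    calc s * x ^ i * x ^ k * (s * x ^ i)⁻¹ = (s * x * s⁻¹) ^ k := by rw [conj_zpow]; group
      _ = _ := by rw [h.inv, inv_zpow]

theorem zpowers_eq_of_orderOf (h : Dih D x s q) [Finite G] {a b : G}
    (ha : a ∈ Subgroup.zpowers x) (hb : b ∈ Subgroup.zpowers x) (hab : orderOf a = orderOf b) :
    Subgroup.zpowers a = Subgroup.zpowers b := by
  haveI : Fintype (Subgroup.zpowers x) := Fintype.ofFinite _
  let A : Finset (Subgroup.zpowers x) := Finset.univ.filter fun y => y ^ orderOf b = 1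
  have hcard : A.card ≤ orderOf b := IsCyclic.card_pow_eq_one_le (orderOf_pos b)
  have hmem : ∀ c : G, orderOf c = orderOf b → c ∈ Subgroup.zpowers x →
      ∀ y ∈ Subgroup.zpowers c, ∃ hy : y ∈ Subgroup.zpowers x, (⟨y, hy⟩ : Subgroup.zpowers x) ∈ A := by
    intro c hc hcx y hy
    have hyx : y ∈ Subgroup.zpowers x := Subgroup.zpowers_le.2 hcx hy
    refine ⟨hyx, Finset.mem_filter.2 ⟨Finset.mem_univ _, Subtype.ext ?_⟩⟩
    obtain ⟨k, rfl⟩ := Subgroup.mem_zpowers_iff.1 hy
    show (c ^ k) ^ orderOf b = 1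
    rw [← hc, ← zpow_natCast, ← zpow_mul, mul_comm, zpow_mul, zpow_natCast, pow_orderOf_eq_one,
      one_zpow]
  have key : ∀ c : G, orderOf c = orderOf b → c ∈ Subgroup.zpowers x →
      ∀ y : G, y ∈ Subgroup.zpowers c ↔ ∃ z ∈ A, (z : G) = y := by
    intro c hc hcx
    let S : Finset G := A.image fun z : Subgroup.zpowers x => (z : G)
    haveI : Fintype (Subgroup.zpowers c) := Fintype.ofFinite _
    let T : Finset G := Finset.univ.image fun z : Subgroup.zpowers c => (z : G)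
    have hTS : T = S := by
      refine Finset.eq_of_subset_of_card_le (fun y hy => ?_) ?_
      · obtain ⟨z, -, rfl⟩ := Finset.mem_image.1 hy
        obtain ⟨hy, hA⟩ := hmem c hc hcx _ z.2
        exact Finset.mem_image.2 ⟨_, hA, rfl⟩
      · rw [Finset.card_image_of_injective _ Subtype.val_injective,
          Finset.card_image_of_injective _ Subtype.val_injective, Finset.card_univ,
          ← Nat.card_eq_fintype_card, Nat.card_zpowers, hc]
        exact hcard
    intro y
    rw [show y ∈ Subgroup.zpowers c ↔ y ∈ T by simp [T, Subgroup.mem_zpowers_iff], hTS]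
    simp [S]
  ext y
  rw [key a hab ha y, key b rfl hb y]

theorem conjSub_zpowers_eq (h : Dih D x s q) [Finite G] {u t : G} (hu : u ∈ Subgroup.zpowers x)
    (ho : 2 < orderOf u) (ht : t * u * t⁻¹ ∈ D) :
    conjSub t (Subgroup.zpowers u) = Subgroup.zpowers u := by
  have hord : orderOf (t * u * t⁻¹) = orderOf u := by
    rw [show t * u * t⁻¹ = MulAut.conj t u from rfl, MulEquiv.orderOf_eq]
  have h1 : conjSub t (Subgroup.zpowers u) = Subgroup.zpowers (t * u * t⁻¹) :=
    (MonoidHom.map_zpowers _ u).trans rfl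
  rw [h1]
  exact h.zpowers_eq_of_orderOf (h.mem_zpowers_of_order ht (by omega)) hu hord

theorem eq_of_order_le_two (h : Dih D x s q) [Finite G] {a b : G} (ha : a ∈ Subgroup.zpowers x)
    (hb : b ∈ Subgroup.zpowers x) (hab : orderOf a = orderOf b) (ho : orderOf a ≤ 2) : a = b := by
  have h1 := h.zpowers_eq_of_orderOf ha hb hab
  have hmem : a ∈ Subgroup.zpowers b := h1 ▸ Subgroup.mem_zpowers a
  obtain ⟨k, hk⟩ := Subgroup.mem_zpowers_iff.1 hmem
  have hb2 : b ^ (2 : ℤ) = 1 := by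
    have h3 : orderOf b ∣ 2 := by
      have := orderOf_pos b
      have : orderOf b ≤ 2 := hab ▸ ho
      interval_cases orderOf b <;> omega
    rw [show (2 : ℤ) = ((2 : ℕ) : ℤ) from rfl, zpow_natCast]
    exact orderOf_dvd_iff_pow_eq_one.1 h3
  rcases Int.even_or_odd' k with ⟨m, rfl | rfl⟩
  · rw [zpow_mul, hb2, one_zpow] at hk
    rw [← hk] at hab ⊢
    rw [orderOf_one] at hab
    exact (orderOf_eq_one_iff.1 hab.symm).symm
  · rw [zpow_add, zpow_mul, hb2, one_zpow, one_mul, zpow_one] at hk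
    exact hk.symm

theorem isPGroup_mulAut {C : Subgroup G} [Finite C] [IsCyclic C]
    (hC : IsPGroup 2 C) : IsPGroup 2 (MulAut C) := by
  obtain ⟨m, hm⟩ := IsPGroup.iff_card.1 hC
  rcases Nat.eq_zero_or_pos m with rfl | hm0
  · exact IsPGroup.of_card (n := 0) (by rw [IsCyclic.card_mulAut, hm]; rfl)
  · refine IsPGroup.of_card (n := m - 1) ?_
    rw [IsCyclic.card_mulAut, hm, Nat.totient_prime_pow Nat.prime_two hm0]
    simp

theorem mem_normalizer_zpowers (h : Dih D x s q) [Finite G] {u : G}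
    (hu : u ∈ Subgroup.zpowers x) : D ≤ Subgroup.normalizer (Subgroup.zpowers u : Set G) := by
  intro d hd
  refine mem_normalizer_of_conjSub_eq ?_
  have h1 : conjSub d (Subgroup.zpowers u) = Subgroup.zpowers (d * u * d⁻¹) :=
    (MonoidHom.map_zpowers _ u).trans rfl
  rcases h.conj_eq hd hu with h2 | h2 <;> rw [h1, h2]
  exact Subgroup.zpowers_inv

/-- An element of odd order normalising a cyclic `2`-group centralises it. -/
theorem commute_of_regular_normalizer [Finite G] {u y : G}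
    (hu : IsPGroup 2 (Subgroup.zpowers u))
    (hy : y ∈ Subgroup.normalizer (Subgroup.zpowers u : Set G)) (hreg : IsPRegular 2 y) :
    y * u * y⁻¹ = u := by
  set ψ := (Subgroup.zpowers u).normalizerMonoidHom
  haveI : Finite (MulAut (Subgroup.zpowers u)) := CfsgLib.Fusion.finite_mulAut
  obtain ⟨m, hm⟩ := IsPGroup.iff_card.1 (isPGroup_mulAut (C := Subgroup.zpowers u) hu)
  have d1 : orderOf (ψ ⟨y, hy⟩) ∣ orderOf y := by
    rw [← Subgroup.orderOf_mk y hy]
    exact orderOf_map_dvd ψ _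
  have d2 : orderOf (ψ ⟨y, hy⟩) ∣ 2 ^ m := hm ▸ orderOf_dvd_natCard _
  have h1 : orderOf (ψ ⟨y, hy⟩) = 1 := Nat.eq_one_of_dvd_coprimes
    ((Nat.prime_two.coprime_iff_not_dvd.mpr hreg).symm.pow_right m) d1 d2
  rw [orderOf_eq_one_iff, ← MonoidHom.mem_ker, Subgroup.normalizerMonoidHom_ker,
    Subgroup.mem_subgroupOf] at h1
  have h2 : u * y = y * u := Subgroup.mem_centralizer_iff.1 h1 u (Subgroup.mem_zpowers u)
  rw [← h2, mul_inv_cancel_right]

/-- An element of odd order fixing the central involution and normalising a subgroup of `D`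
centralises it. -/
theorem mem_centralizer_of_regular (h : Dih D x s q) [Finite G] {Q : Subgroup G} (hQ : Q ≤ D)
    {y : G} (hy : y ∈ Subgroup.normalizer (Q : Set G)) (hreg : IsPRegular 2 y)
    (hz : y * x ^ q * y⁻¹ = x ^ q) : y ∈ Subgroup.centralizer (Q : Set G) := by
  have hmem : ∀ a ∈ Q, y * a * y⁻¹ ∈ Q := fun a ha => (Subgroup.mem_normalizer_iff.1 hy a).1 ha
  have hord : ∀ a : G, orderOf (y * a * y⁻¹) = orderOf a := fun a => by
    rw [show y * a * y⁻¹ = MulAut.conj y a from rfl, MulEquiv.orderOf_eq]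
  have hzmem : x ^ q ∈ Subgroup.zpowers x := Subgroup.npow_mem_zpowers x q
  have hzo : orderOf (x ^ q) = 2 := by
    have hx := h.order
    have := h.two_le
    rw [orderOf_pow_of_dvd (by omega) (hx ▸ dvd_mul_left q 2), hx,
      Nat.mul_div_cancel _ (by omega)]
  have hin : ∀ a ∈ Q, a ∈ Subgroup.zpowers x → y * a * y⁻¹ = a := by
    intro a ha hax
    by_cases ho : 2 < orderOf a
    · refine commute_of_regular_normalizer (h.isPGroup.to_le (Subgroup.zpowers_le.2 hax)) ?_ hreg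
      exact mem_normalizer_of_conjSub_eq (h.conjSub_zpowers_eq hax ho (hQ (hmem a ha)))
    · rcases Nat.lt_or_ge (orderOf a) 2 with h1 | h1
      · have : orderOf a = 1 := by have := orderOf_pos a; omega
        rw [orderOf_eq_one_iff.1 this]; group
      · obtain rfl := h.eq_of_order_le_two hax hzmem (by omega) (by omega)
        exact hz
  rw [Subgroup.mem_centralizer_iff]
  intro a ha
  suffices heq : y * a * y⁻¹ = a by
    calc a * y = y * a * y⁻¹ * y := by rw [heq]
      _ = y * a := by group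
  by_cases hax : a ∈ Subgroup.zpowers x
  · exact hin a ha hax
  · have hbx : y * a * y⁻¹ ∉ Subgroup.zpowers x := by
      intro hbx
      have h1 := hin _ (hmem a ha) hbx
      have h2 : y * a * y⁻¹ = a := by
        calc y * a * y⁻¹ = y⁻¹ * (y * (y * a * y⁻¹) * y⁻¹) * y := by group
          _ = y⁻¹ * (y * a * y⁻¹) * y := by rw [h1]
          _ = a := by group
      exact hax (h2 ▸ hbx)
    set c := a⁻¹ * (y * a * y⁻¹) with hc
    have hcQ : c ∈ Q := Q.mul_mem (Q.inv_mem ha) (hmem a ha)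
    have hcx : c ∈ Subgroup.zpowers x := by
      rcases h.cases a (hQ ha) with ⟨i, hi⟩ | ⟨i, hi⟩
      · exact absurd (hi ▸ Subgroup.npow_mem_zpowers x i) hax
      rcases h.cases _ (hQ (hmem a ha)) with ⟨j, hj⟩ | ⟨j, hj⟩
      · exact absurd (hj ▸ Subgroup.npow_mem_zpowers x j) hbx
      rw [hc, hj, hi, mul_inv_rev, mul_assoc, inv_mul_cancel_left]
      exact mul_mem (inv_mem (Subgroup.npow_mem_zpowers x i)) (Subgroup.npow_mem_zpowers x j)
    have hcfix := hin c hcQ hcx
    have hpow : ∀ m : ℕ, y ^ m * a * (y ^ m)⁻¹ = a * c ^ m := by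
      intro m
      induction m with
      | zero => simp
      | succ m ih =>
        calc y ^ (m + 1) * a * (y ^ (m + 1))⁻¹ = y * (y ^ m * a * (y ^ m)⁻¹) * y⁻¹ := by
              rw [pow_succ']; group
          _ = y * a * y⁻¹ * (y * c * y⁻¹) ^ m := by rw [ih, conj_pow]; group
          _ = a * c ^ (m + 1) := by
              rw [hcfix, show y * a * y⁻¹ = a * c by rw [hc]; group, pow_succ', mul_assoc]
    have h1 := hpow (orderOf y)
    rw [pow_orderOf_eq_one, one_mul, inv_one, mul_one, left_eq_mul] at h1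
    obtain ⟨t, ht⟩ := h.isPGroup ⟨c, hcx⟩
    have h2 : orderOf c ∣ 2 ^ t := orderOf_dvd_of_pow_eq_one (congrArg Subtype.val ht)
    have h3 : orderOf c = 1 := Nat.eq_one_of_dvd_coprimes
      ((Nat.prime_two.coprime_iff_not_dvd.mpr hreg).symm.pow_right t)
      (orderOf_dvd_of_pow_eq_one h1) h2
    rw [orderOf_eq_one_iff, hc, inv_mul_eq_one] at h3
    exact h3.symm

variable [Finite G] {M : Ideal AlgInt} [M.IsMaximal] [CharP (ResField M) 2]
  {E e f : MonoidAlgebra (ResField M) G}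

/-- The stabilizer of a pair on a cyclic subgroup of `D` induces at most inversion. -/
theorem stab_cyclic (hM : IsPModular 2 M) (h : Dih D x s q) (hP : PairOf 2 E D e)
    (hno : NoExt 2 D e) {u : G} (hu : u ∈ Subgroup.zpowers x)
    (hle : SLE 2 (Subgroup.zpowers u) f D e) {t : G}
    (ht : t ∈ pairStab (Subgroup.zpowers u) f) : t * u * t⁻¹ = u ∨ t * u * t⁻¹ = u⁻¹ := by
  set Z := Subgroup.zpowers u with hZ
  by_cases ho : 2 < orderOf u
  swap
  · refine Or.inl (h.eq_of_order_le_two ?_ hu ?_ ?_)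
    · exact Subgroup.zpowers_le.2 hu
        ((Subgroup.mem_normalizer_iff.1 ht.1 u).1 (Subgroup.mem_zpowers u))
    · rw [show t * u * t⁻¹ = MulAut.conj t u from rfl, MulEquiv.orderOf_eq]
    · rw [show t * u * t⁻¹ = MulAut.conj t u from rfl, MulEquiv.orderOf_eq]
      omega
  have hQp := hle.pair_left hP.pair
  have hTN : pairStab Z f ≤ Subgroup.normalizer (Z : Set G) := fun y hy => hy.1
  have hfix : ConjFixed (pairStab Z f) f := conjFixed_iff.mpr fun y hy => hy.2
  have hDN : D ⊓ Subgroup.normalizer (Z : Set G) = D :=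
    inf_eq_left.2 (h.mem_normalizer_zpowers hu)
  have hDT : D ≤ pairStab Z f := hDN ▸ inf_normalizer_le_pairStab hP.pair hle
  obtain ⟨D₀, hD₀⟩ := exists_maxIn_of_isBlockIdem hM
    (isBlockIdem_of_stable hQp (le_pairStab hQp) hTN (centralizer_le_pairStab hQp) hfix)
  obtain ⟨w, hw, hmw⟩ := exists_conj_maxIn hP hno hle hTN (centralizer_le_pairStab hQp) hfix hD₀
  have hwZ : conjSub w Z = Z := h.conjSub_zpowers_eq hu ho
    (hw.le (Subgroup.mem_map_of_mem _ (Subgroup.mem_zpowers u)))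
  rw [conjSub_pairStab, hwZ] at hmw
  rw [hwZ] at hw
  rw [SLE.unique hP.pair hw hle, inf_eq_left.2 hDT] at hmw
  obtain ⟨-, R, hR⟩ := isFullyAutomized_of_maxIn hM hP.pair hle (by rwa [hDN])
  have hZp : IsPGroup 2 Z := h.isPGroup.to_le (Subgroup.zpowers_le.2 hu)
  haveI : Finite (MulAut Z) := CfsgLib.Fusion.finite_mulAut
  have htop : (R : Subgroup ((pairFusion 2 D e hP.pair).autGroup Z)) = ⊤ :=
    (R.3 (Q := ⊤) (((isPGroup_mulAut (C := Z) hZp).to_subgroup _).to_subgroup _) le_top).symm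
  have hmem : Z.normalizerMonoidHom ⟨t, ht.1⟩ ∈ (pairFusion 2 D e hP.pair).autGroup Z := by
    rw [autGroup_pairFusion hP.pair hle, CfsgLib.Fusion.mem_autInducedBy_iff]
    exact ⟨t, ht, fun _ => rfl⟩
  have h2 : (⟨_, hmem⟩ : (pairFusion 2 D e hP.pair).autGroup Z) ∈
      (R : Subgroup ((pairFusion 2 D e hP.pair).autGroup Z)) := htop ▸ Subgroup.mem_top _
  rw [hR, Subgroup.mem_subgroupOf, CfsgLib.Fusion.mem_autInducedBy_iff] at h2
  obtain ⟨d, hd, hdu⟩ := h2
  have h3 : t * u * t⁻¹ = d * u * d⁻¹ := hdu ⟨u, Subgroup.mem_zpowers u⟩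
  rw [h3]
  exact h.conj_eq hd hu

/-- Subsections at powers of `x` are fused only by inversion. -/
theorem eq_or_eq_inv_of_fused (hM : IsPModular 2 M) (h : Dih D x s q) (hP : PairOf 2 E D e)
    (hno : NoExt 2 D e) {u t : G} {f' : MonoidAlgebra (ResField M) G}
    (hu : u ∈ Subgroup.zpowers x) (hu' : t * u * t⁻¹ ∈ Subgroup.zpowers x)
    (hle : SLE 2 (Subgroup.zpowers u) f D e)
    (hle' : SLE 2 (Subgroup.zpowers (t * u * t⁻¹)) f' D e) (ht : conjA t f = f') :
    t * u * t⁻¹ = u ∨ t * u * t⁻¹ = u⁻¹ := by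
  have heq : Subgroup.zpowers (t * u * t⁻¹) = Subgroup.zpowers u :=
    h.zpowers_eq_of_orderOf hu' hu
      (by rw [show t * u * t⁻¹ = MulAut.conj t u from rfl, MulEquiv.orderOf_eq])
  rw [heq] at hle'
  obtain rfl := SLE.unique hP.pair hle hle'
  refine stab_cyclic hM h hP hno hu hle ⟨mem_normalizer_of_conjSub_eq ?_, ht⟩
  exact ((MonoidHom.map_zpowers _ u).trans rfl).trans heq

end Dih

end CfsgLib.DihBlocks
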