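import Cfsg.Agent.Lib.DihedralBlocks.Local
import Cfsg.Agent.Lib.BlockRank.RankOneMajor
import Cfsg.Agent.Lib.BlockRank.MajorDivisible

/-!
# The column at a major involution with a local block of rank one
-/

set_option autoImplicit false
set_option maxHeartbeats 1600000
set_option synthInstance.maxHeartbeats 400000

open scoped ComplexConjugate Classical
open Cfsg CfsgLib.Blocks CfsgLib.Blocks.Pairs CfsgLib.BlockRank CfsgLib.BlockReg

namespace CfsgLib.DihBlocks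

universe u

variable {G : Type u} [Group G] [Fintype G] {M : Ideal AlgInt} [M.IsMaximal]
  [CharP (ResField M) 2] {B : Set (IrrCharacter G)}

theorem int_dvd_of_isIntegral {a N : ℤ} (ha : a ≠ 0) {Y : ℂ} (hY : IsIntegral ℤ Y)
    (h : (N : ℂ) = (a : ℂ) * Y) : a ∣ N := by
  obtain ⟨w, hw⟩ := CfsgLib.Char.exists_int_of_isIntegral_ratCast
    (q := (N : ℚ) / (a : ℚ)) (by
      push_cast
      rwa [h, mul_div_cancel_left₀ _ (Int.cast_ne_zero.2 ha)])
  refine ⟨w, ?_⟩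
  have hwQ : ((N : ℂ)) / (a : ℂ) = (w : ℂ) := by
    have h1 := congrArg (fun r : ℚ => (r : ℂ)) hw
    push_cast at h1
    exact h1.symm
  rw [div_eq_iff (Int.cast_ne_zero.2 ha)] at hwQ
  have h2 : (N : ℂ) = ((a * w : ℤ) : ℂ) := by rw [hwQ]; push_cast; ring
  exact_mod_cast h2

/-- A major involution whose local block has rank one gives an integral column. -/
theorem exists_zColumn (hM : IsPModular 2 M) (hB : IsPBlock M B) [Fintype B] {z : G}
    (hz : orderOf z = 2) {f : MonoidAlgebra (ResField M) G}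
    (hpair : PairOf 2 (ebar hB) (Subgroup.zpowers z) f)
    (hloc : ∀ (b : Set (IrrCharacter (Subgroup.centralizer ({z} : Set G)))) (hb : IsPBlock M b),
      eIn hb = f → blockRank 2 b = 1 ∧ blockDefect 2 b = blockDefect 2 B) :
    ∃ (g : ℂ) (v : IrrCharacter G → ℤ), g ≠ 0 ∧
      (∀ χ, colOf M z f χ = g * (v χ : ℂ)) ∧
      ∑ χ ∈ B.toFinset, v χ * v χ = ((2 ^ blockDefect 2 B : ℕ) : ℤ) ∧
      (∀ χ ∈ B, v χ ≠ 0) ∧
      (∀ χ ∈ B, (2 : ℤ) ^ blockHeight 2 B (χ : G → ℂ) ∣ v χ) ∧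
      ∀ χ ∈ B, blockHeight 2 B (χ : G → ℂ) = 0 → ¬ (2 : ℤ) ∣ v χ := by
  haveI := Fintype.ofFinite (Subgroup.centralizer ({z} : Set G))
  obtain ⟨b, hb, hbe, hind⟩ := exists_induced hM hB hpair
  haveI := Fintype.ofFinite b
  obtain ⟨hl, hdef⟩ := hloc b hb hbe
  have hζ : IsPrimitiveRoot (-1 : ℂ) (orderOf z) := hz.symm ▸ IsPrimitiveRoot.neg_one 0 (by norm_num)
  have hz2 : orderOf z = 2 ^ 1 := by rw [hz]; rfl
  obtain ⟨φ₀, nc, d, hφ₀, hdd, hsum⟩ := exists_rankOne_data hM hb hl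
  have h1 : IsPRegular 2 (1 : Subgroup.centralizer ({z} : Set G)) := by simp [IsPRegular]
  obtain ⟨φ₁, hφ₁⟩ := CfsgLib.BlockReg.block_nonempty hM hb
  -- the degree
  obtain ⟨g, hg⟩ : ∃ g : ℕ, φ₀ 1 = (g : ℂ) := by
    obtain ⟨g, hg⟩ : ∃ g : ℤ, φ₀ 1 = (g : ℂ) :=
      ⟨∑ ψ ∈ b.toFinset,
          nc ψ * (charDegree (ψ : (Subgroup.centralizer ({z} : Set G)) → ℂ) : ℤ), by
        rw [hφ₀]
        push_cast
        exact Finset.sum_congr rfl fun ψ _ => by rw [CfsgLib.BlockReg.deg_cast]⟩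
    have h2 := hdd φ₁ hφ₁ 1 h1
    rw [← CfsgLib.BlockReg.deg_cast, hg] at h2
    have h3 : (charDegree (φ₁ : (Subgroup.centralizer ({z} : Set G)) → ℂ) : ℤ) = (d φ₁ : ℤ) * g := by
      exact_mod_cast h2
    have h4 := CfsgLib.BlockReg.deg_pos φ₁
    have h5 : 0 < g := by nlinarith [Int.natCast_nonneg (d φ₁)]
    exact ⟨g.toNat, by rw [hg, ← Int.cast_natCast, Int.toNat_of_nonneg h5.le]⟩
  have hgdeg : ∀ φ ∈ b,
      charDegree (φ : (Subgroup.centralizer ({z} : Set G)) → ℂ) = d φ * g := fun φ hφ => by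
    have h2 := hdd φ hφ 1 h1
    rw [← CfsgLib.BlockReg.deg_cast, hg] at h2
    exact_mod_cast h2
  have hg0 : g ≠ 0 := fun h0 => (CfsgLib.BlockReg.deg_pos φ₁).ne' (by rw [hgdeg φ₁ hφ₁, h0, mul_zero])
  have hnd : ∑ ψ ∈ b.toFinset, nc ψ * (d ψ : ℤ) = 1 := by
    refine mul_right_cancel₀ (b := (g : ℤ)) (by exact_mod_cast hg0) ?_
    rw [one_mul, Finset.sum_mul]
    have h2 : ((∑ ψ ∈ b.toFinset, nc ψ * (d ψ : ℤ) * (g : ℤ) : ℤ) : ℂ) = ((g : ℤ) : ℂ) := by
      rw [Int.cast_natCast, ← hg, hφ₀, Int.cast_sum]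
      refine Finset.sum_congr rfl fun ψ hψ => ?_
      rw [← CfsgLib.BlockReg.deg_cast, hgdeg ψ (Set.mem_toFinset.1 hψ)]
      push_cast
      ring
    exact_mod_cast h2
  obtain ⟨φ₂, hφ₂, hoddd⟩ : ∃ φ ∈ b, ¬ 2 ∣ d φ := by
    by_contra hcon
    push Not at hcon
    have : (2 : ℤ) ∣ ∑ ψ ∈ b.toFinset, nc ψ * (d ψ : ℤ) := Finset.dvd_sum fun ψ hψ =>
      Dvd.dvd.mul_left (Int.natCast_dvd_natCast.2 (hcon ψ (Set.mem_toFinset.1 hψ))) _
    rw [hnd] at this
    norm_num at this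
  have hmin : minExp 2 b ≤ g.factorization 2 := by
    refine (CfsgLib.BlockReg.minExp_le hφ₂).trans ?_
    rw [hgdeg φ₂ hφ₂, Nat.factorization_mul (fun h0 => hoddd (by rw [h0]; exact dvd_zero 2)) hg0,
      Finsupp.add_apply, Nat.factorization_eq_zero_of_not_dvd hoddd, zero_add]
  -- the column
  choose m i hmi using fun χ : IrrCharacter G =>
    exists_blockPart_translate (G := G) (C := Subgroup.centralizer ({z} : Set G)) (x := z) rfl hζ χ
  let v : IrrCharacter G → ℤ := fun χ =>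
    ∑ φ ∈ b.toFinset, (m χ φ : ℤ) * (-1) ^ i χ φ * (d φ : ℤ)
  have hpart : ∀ (χ : IrrCharacter G) (r : Subgroup.centralizer ({z} : Set G)), IsPRegular 2 r →
      blockPart b (fun c => (χ : G → ℂ) (z * (c : G))) r = (v χ : ℂ) * φ₀ r := by
    intro χ r hr
    rw [(hmi χ).2 b r]
    simp only [v, Int.cast_sum, Finset.sum_mul]
    refine Finset.sum_congr rfl fun φ hφ => ?_
    rw [hdd φ (Set.mem_toFinset.1 hφ) r hr]
    push_cast
    ring
  have hcol : ∀ χ, colOf M z f χ = (g : ℂ) * (v χ : ℂ) := fun χ => by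
    rw [← hbe, colOf_eq_blockPart hb, hpart χ 1 h1, hg, mul_comm]
  have hgC : (g : ℂ) ≠ 0 := Nat.cast_ne_zero.2 hg0
  have hnorm2 : ∑ χ ∈ B.toFinset, v χ * v χ = ((2 ^ blockDefect 2 B : ℕ) : ℤ) := by
    have h2 := sum_colOf_self hM hB hb (hbe.symm ▸ hpair)
    rw [hbe] at h2
    simp only [hcol, map_mul, map_natCast, map_intCast] at h2
    have h3 : ((∑ φ ∈ b.toFinset,
        charDegree (φ : Subgroup.centralizer ({z} : Set G) → ℂ) ^ 2 : ℕ) : ℂ) =
        (g : ℂ) * (g : ℂ) * ((2 ^ blockDefect 2 B : ℕ) : ℂ) := by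
      rw [← hdef, ← hsum, Nat.cast_sum, Nat.cast_sum, Finset.mul_sum]
      refine Finset.sum_congr rfl fun φ hφ => ?_
      rw [hgdeg φ (Set.mem_toFinset.1 hφ)]
      push_cast
      ring
    have h4 : (g : ℂ) * (g : ℂ) * ((∑ χ ∈ B.toFinset, v χ * v χ : ℤ) : ℂ) =
        (g : ℂ) * (g : ℂ) * ((2 ^ blockDefect 2 B : ℕ) : ℂ) := by
      rw [← h3, ← h2, Int.cast_sum, Finset.mul_sum]
      exact Finset.sum_congr rfl fun χ _ => by push_cast; ring
    have h5 := mul_left_cancel₀ (mul_ne_zero hgC hgC) h4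
    exact_mod_cast h5
  -- parity
  have hparity : ∀ χ ∈ B, blockHeight 2 B (χ : G → ℂ) = 0 → ¬ (2 : ℤ) ∣ v χ := by
    intro χ hχ hh hdvd
    rw [CfsgLib.BlockReg.blockHeight_eq] at hh
    refine not_memIdeal_degree_blockPart hM hind hχ
      (le_antisymm (Nat.sub_eq_zero_iff_le.1 hh) (CfsgLib.BlockReg.minExp_le hχ)) (m χ)
      (hmi χ).1 ?_
    have h2 : (2 : ℤ) ∣ ∑ φ ∈ b.toFinset, (m χ φ : ℤ) * (d φ : ℤ) := by
      have h3 : (2 : ℤ) ∣ ∑ φ ∈ b.toFinset,
          ((m χ φ : ℤ) * (d φ : ℤ) - (m χ φ : ℤ) * (-1) ^ i χ φ * (d φ : ℤ)) := by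
        refine Finset.dvd_sum fun φ _ => ?_
        rcases neg_one_pow_eq_or ℤ (i χ φ) with h | h <;> rw [h]
        · simp
        · exact ⟨(m χ φ : ℤ) * (d φ : ℤ), by ring⟩
      rw [Finset.sum_sub_distrib] at h3
      simpa only [v, sub_add_cancel] using dvd_add h3 hdvd
    have h4 := CfsgLib.BlockReg.memIdeal_mul_right hM
      ((CfsgLib.BlockReg.memIdeal_intCast_iff hM _).2 h2)
      (CfsgLib.BlockReg.natCast_div_memRing hM (n := g)
        (pow_ne_zero (minExp 2 b) two_ne_zero) (Or.inr (by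
          rw [Nat.prime_two.factorization_pow, Finsupp.single_eq_same]; exact hmin)))
    convert h4 using 1
    rw [Int.cast_sum, Finset.sum_mul]
    refine Finset.sum_congr rfl fun φ hφ => ?_
    rw [hgdeg φ (Set.mem_toFinset.1 hφ)]
    push_cast
    ring
  -- the contributions
  have hcontrib : ∀ χ ψ : IrrCharacter G,
      contrib 2 (blockDefect 2 B) z b χ ψ = ((v χ * v ψ : ℤ) : ℂ) := by
    intro χ ψ
    have hnorm : ((2 ^ blockDefect 2 B : ℕ) : ℂ) *
        ((Nat.card (Subgroup.centralizer ({z} : Set G)) : ℂ)⁻¹ * regPair 2 φ₀ φ₀) = 1 := by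
      have h := cast_blockRank_eq b (regClosed_of_isPBlock hM hind.1)
      rw [hl, Nat.cast_one, ← Finset.sum_subtype b.toFinset (fun y => Set.mem_toFinset)
        (fun φ : IrrCharacter (Subgroup.centralizer ({z} : Set G)) =>
          classInner (pRegularPart 2 (φ : Subgroup.centralizer ({z} : Set G) → ℂ))
            (φ : Subgroup.centralizer ({z} : Set G) → ℂ))] at h
      rw [h, ← hdef, ← hsum, Nat.cast_sum, Finset.sum_mul]
      refine Finset.sum_congr rfl fun φ hφ => ?_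
      rw [classInner_pRegularPart_eq, regPair, regPair]
      push_cast
      simp only [Finset.mul_sum]
      refine Finset.sum_congr rfl fun r hr => ?_
      rw [hdd φ (Set.mem_toFinset.1 hφ) r (Finset.mem_filter.1 hr).2, map_mul, map_natCast]
      ring
    have h2 : regPair 2 (blockPart b (fun c => (χ : G → ℂ) (z * (c : G))))
        (blockPart b (fun c => (ψ : G → ℂ) (z * (c : G)))) =
        (v χ : ℂ) * (v ψ : ℂ) * regPair 2 φ₀ φ₀ := by
      rw [regPair, regPair, Finset.mul_sum]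
      refine Finset.sum_congr rfl fun r hr => ?_
      rw [hpart χ r (Finset.mem_filter.1 hr).2, hpart ψ r (Finset.mem_filter.1 hr).2, map_mul,
        map_intCast]
      ring
    rw [contrib, h2]
    push_cast at hnorm ⊢
    linear_combination ((v χ : ℂ) * (v ψ : ℂ)) * hnorm
  obtain ⟨ψ, hψ, hψh⟩ := CfsgLib.BlockReg.exists_minExp (p := 2)
    (CfsgLib.BlockReg.block_nonempty hM hB)
  have hψ0 : blockHeight 2 B (ψ : G → ℂ) = 0 := by
    rw [CfsgLib.BlockReg.blockHeight_eq, hψh, Nat.sub_self]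
  refine ⟨g, v, hgC, hcol, hnorm2, fun χ hχ h0 => ?_, fun χ hχ => ?_, hparity⟩
  · refine contrib_ne_zero hM rfl ⟨1, hz2⟩ hind hdef hχ hψ hψh ?_
    rw [hcontrib, h0, zero_mul, Int.cast_zero]
  · have hdC : blockDefect 2 B + minExp 2 b =
        (Nat.card (Subgroup.centralizer ({z} : Set G))).factorization 2 := by
      rw [← hdef, CfsgLib.BlockReg.blockDefect_eq]
      obtain ⟨φ, hφ, hm⟩ := CfsgLib.BlockReg.exists_minExp (p := 2) ⟨φ₁, hφ₁⟩
      have := CfsgLib.BlockReg.factorization_deg_le (p := 2) φ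
      omega
    have hdG : blockDefect 2 B + minExp 2 B = (Nat.card G).factorization 2 := by
      rw [CfsgLib.BlockReg.blockDefect_eq]
      have := CfsgLib.BlockReg.factorization_deg_le (p := 2) ψ
      omega
    obtain ⟨Y, hY, -⟩ := exists_contrib_divisible hM rfl hz2 hζ hB hind hdC hdG
    obtain ⟨hYint, hYeq⟩ := hY χ hχ ψ
    rw [hcontrib] at hYeq
    have h2 : (2 : ℤ) ^ blockHeight 2 B (χ : G → ℂ) ∣ v χ * v ψ := by
      refine int_dvd_of_isIntegral (pow_ne_zero _ two_ne_zero) hYint ?_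
      rw [hYeq, CfsgLib.BlockReg.blockHeight_eq]
      push_cast
      ring
    refine (IsCoprime.pow_left ?_).dvd_of_dvd_mul_right h2
    exact (Int.prime_two.coprime_iff_not_dvd).2 (hparity ψ hψ hψ0)

end CfsgLib.DihBlocks
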