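import Cfsg.Agent.Lib.DihedralBlocks.Congr
import Cfsg.Agent.Lib.DihedralBlocks.Exceptional
import Cfsg.Agent.Lib.DihedralBlocks.Count
import Cfsg.Agent.Lib.DihedralBlocks.ZColumn
import Cfsg.Agent.Lib.StarAction.AutDefect

/-!
# The invariants of a block with dihedral defect group
-/

set_option autoImplicit false
set_option maxHeartbeats 1600000
set_option synthInstance.maxHeartbeats 400000

open scoped ComplexConjugate Classical
open Cfsg CfsgLib.Blocks CfsgLib.Blocks.Pairs CfsgLib.BlockRank CfsgLib.BlockReg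

namespace CfsgLib.DihBlocks

universe u

variable {G : Type u} [Group G] [Fintype G] {M : Ideal AlgInt} [M.IsMaximal]
  [CharP (ResField M) 2] {D : Subgroup G} {x s : G} {q : ℕ} {e : MonoidAlgebra (ResField M) G}
  {B : Set (IrrCharacter G)}

theorem Dih.even (h : Dih D x s q) : 2 * (q / 2) = q := by
  obtain ⟨k, hk⟩ := h.isPow
  have := h.two_le
  rcases k with _ | k
  · omega
  · rw [pow_succ'] at hk; omega

theorem blockDefect_eq_of_dih (hM : IsPModular 2 M) (hB : IsPBlock M B) (h : Dih D x s q)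
    (hP : PairOf 2 (ebar hB) D e) (hno : NoExt 2 D e) : 2 ^ blockDefect 2 B = 4 * q := by
  rw [← card_defectGroup hM hB ((isDefectGroup_iff_maxR hM hB).2 (maxR_of_noExt hP hno)), h.card]

/-- A block with dihedral defect group has at most three Brauer characters more than it has
ordinary characters beyond `q`. -/
theorem rank_add_q_le (hM : IsPModular 2 M) (hB : IsPBlock M B) (h : Dih D x s q)
    (hP : PairOf 2 (ebar hB) D e) (hno : NoExt 2 D e) : blockRank 2 B + q ≤ Nat.card B := by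
  have hq := h.two_le
  have hmem : ∀ j : Fin q, x ^ ((j : ℕ) + 1) ∈ Subgroup.zpowers x :=
    fun j => Subgroup.npow_mem_zpowers x _
  have h1 := rank_add_le hM hB (ι := Fin q) (fun j => x ^ ((j : ℕ) + 1))
    (fun j => below D e (x ^ ((j : ℕ) + 1))) (fun j h0 => ?_)
    (fun j => pairOf_below hP (h.zpowers_le (hmem j))) (fun i j hij t ht hconj => ?_)
  · rwa [Fintype.card_fin] at h1
  · have h2 := h.pow_inj (a := (j : ℕ) + 1) (b := 0) (by omega) (by omega) (by rw [h0, pow_zero])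
    omega
  · have hu' : t * x ^ ((i : ℕ) + 1) * t⁻¹ ∈ Subgroup.zpowers x := by rw [ht]; exact hmem j
    refine hij (Fin.ext ?_)
    rcases h.eq_or_eq_inv_of_fused hM hP hno (hmem i) hu' (f := below D e (x ^ ((i : ℕ) + 1)))
      (f' := below D e (x ^ ((j : ℕ) + 1)))
      (sle_below hP.pair (h.zpowers_le (hmem i)))
      (by rw [ht]; exact sle_below hP.pair (h.zpowers_le (hmem j))) hconj with h3 | h3 <;>
      rw [ht] at h3
    · have := h.pow_inj (by omega) (by omega) h3
      omega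
    · rw [eq_inv_iff_mul_eq_one, ← pow_add, ← orderOf_dvd_iff_pow_eq_one, h.order] at h3
      obtain ⟨c, hc⟩ := h3
      rcases Nat.lt_or_ge c 2 with hc2 | hc2
      · interval_cases c <;> omega
      · have : 2 * q * 2 ≤ 2 * q * c := Nat.mul_le_mul_left _ hc2
        omega

theorem dihedral_invariants (hM : IsPModular 2 M) (hB : IsPBlock M B) (h : Dih D x s q)
    (hP : PairOf 2 (ebar hB) D e) (hno : NoExt 2 D e) :
    Nat.card B = q + 3 ∧ 1 ≤ blockRank 2 B ∧ blockRank 2 B ≤ 3 ∧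
      Nat.card {χ : IrrCharacter G // χ ∈ B ∧ blockHeight 2 B (χ : G → ℂ) = 0} = 4 ∧
      ∀ χ ∈ B, blockHeight 2 B (χ : G → ℂ) ≤ 1 := by
  haveI := Fintype.ofFinite B
  have hq := h.two_le
  have hm := h.even
  obtain ⟨k, hk⟩ := h.isPow
  have hdef := blockDefect_eq_of_dih hM hB h hP hno
  set ζ : ℂ := Complex.exp (2 * Real.pi * Complex.I / ((2 * q : ℕ) : ℂ)) with hζdef
  have hζ : IsPrimitiveRoot ζ (2 * q) := Complex.isPrimitiveRoot_exp _ (by omega)
  obtain ⟨T⟩ := exists_topData hM hB h hP hno hζ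
  obtain ⟨C⟩ := exists_coords hM hB h hP hno hζ T
  set H := B.toFinset.filter fun χ : IrrCharacter G => blockHeight 2 B (χ : G → ℂ) = 0 with hH
  have hHS : H ⊆ B.toFinset := Finset.filter_subset _ _
  have hHB : ∀ χ ∈ H, χ ∈ B ∧ blockHeight 2 B (χ : G → ℂ) = 0 := fun χ hχ => by
    simpa [hH] using hχ
  have hHeq : Nat.card {χ : IrrCharacter G // χ ∈ B ∧ blockHeight 2 B (χ : G → ℂ) = 0} = H.card := by
    rw [Nat.card_eq_fintype_card, Fintype.card_subtype]
    congr 1
    ext χ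
    simp [hH]
  -- four characters of height zero
  have hodd0 : ∀ χ ∈ H, 1 ≤ C.coeff χ 0 * C.coeff χ 0 := fun χ hχ => by
    have h0 : C.coeff χ 0 ≠ 0 := fun h0 => C.odd χ (hHB χ hχ).1 (hHB χ hχ).2 (h0 ▸ dvd_zero _)
    have := mul_self_pos.2 h0
    omega
  have hred : ∀ χ ∈ H, ¬ 2 ∣ StarAction.redDeg 2 B χ := fun χ hχ h2 =>
    (StarAction.pow_dvd_redDeg_iff (hHB χ hχ).1).1 h2 (hHB χ hχ).2
  have hcard : H.card = 4 := by
    have hd2 : 2 ≤ blockDefect 2 B := by
      by_contra hlt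
      have : 2 ^ blockDefect 2 B ≤ 2 ^ 1 := Nat.pow_le_pow_right two_pos (by omega)
      omega
    have h4 := StarAction.sq_dvd_sum_height_zero hM hB (n := 2) le_rfl hd2
    rw [← Finset.sum_subtype H (fun χ => by simp [hH]) (fun χ => StarAction.redDeg 2 B χ ^ 2)] at h4
    have h8 : ∀ χ ∈ H, ∃ t, StarAction.redDeg 2 B χ ^ 2 = 8 * t + 1 := fun χ hχ => by
      obtain ⟨v, hv⟩ : Odd (StarAction.redDeg 2 B χ) :=
        Nat.not_even_iff_odd.1 fun h => hred χ hχ (even_iff_two_dvd.1 h)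
      obtain ⟨t, ht⟩ := Nat.even_mul_succ_self v
      exact ⟨t, by rw [hv, show (2 * v + 1) ^ 2 = 4 * (v * (v + 1)) + 1 by ring, ht]; ring⟩
    choose! t ht using h8
    rw [Finset.sum_congr rfl ht, Finset.sum_add_distrib, Finset.sum_const, smul_eq_mul, mul_one,
      ← Finset.mul_sum] at h4
    have h4' : 4 ∣ H.card := (Nat.dvd_add_right
      (dvd_mul_of_dvd_left (by norm_num : 4 ∣ 8) _)).1 (by simpa using h4)
    obtain ⟨ψ, hψ, hψh⟩ := exists_minExp (p := 2) (block_nonempty hM hB)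
    have hpos : 0 < H.card := Finset.card_pos.2 ⟨ψ, Finset.mem_filter.2
      ⟨Set.mem_toFinset.2 hψ, by rw [CfsgLib.BlockReg.blockHeight_eq, hψh, Nat.sub_self]⟩⟩
    have hle : (H.card : ℤ) ≤ 4 := by
      rw [← C.norm_zero, Finset.card_eq_sum_ones, Nat.cast_sum]
      refine (Finset.sum_le_sum fun χ hχ => ?_).trans
        (Finset.sum_le_sum_of_subset_of_nonneg hHS fun χ _ _ => mul_self_nonneg _)
      exact_mod_cast hodd0 χ hχ
    obtain ⟨c, hc⟩ := h4'
    omega
  have hc0 : (∀ χ ∈ H, C.coeff χ 0 = 1 ∨ C.coeff χ 0 = -1) ∧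
      ∀ χ ∈ B.toFinset, χ ∉ H → C.coeff χ 0 = 0 := by
    have h1 := Finset.sum_sdiff (f := fun χ => C.coeff χ 0 * C.coeff χ 0) hHS
    rw [C.norm_zero] at h1
    have h2 : (4 : ℤ) ≤ ∑ χ ∈ H, C.coeff χ 0 * C.coeff χ 0 := by
      refine le_trans ?_ (Finset.sum_le_sum fun χ hχ => hodd0 χ hχ)
      simp [hcard]
    have h3 := Finset.sum_nonneg (f := fun χ => C.coeff χ 0 * C.coeff χ 0)
      (s := B.toFinset \ H) fun χ _ => mul_self_nonneg _
    refine ⟨fun χ hχ => mul_self_eq_one_iff.1 ?_, fun χ hχ hχH => ?_⟩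
    · have h4 := Finset.add_sum_erase H (fun χ => C.coeff χ 0 * C.coeff χ 0) hχ
      have h5 : (3 : ℤ) ≤ ∑ ψ ∈ H.erase χ, C.coeff ψ 0 * C.coeff ψ 0 := by
        refine le_trans ?_ (Finset.sum_le_sum fun ψ hψ => hodd0 ψ (Finset.mem_of_mem_erase hψ))
        simp [Finset.card_erase_of_mem hχ, hcard]
      have := hodd0 χ hχ
      omega
    · refine mul_self_eq_zero.1 ((Finset.sum_eq_zero_iff_of_nonneg
        fun ψ _ => mul_self_nonneg (C.coeff ψ 0)).1 ?_ χ (Finset.mem_sdiff.2 ⟨hχ, hχH⟩))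
      omega
  -- the column at the central involution
  have hz : orderOf (x ^ q) = 2 := by
    refine orderOf_eq_prime ?_ fun h0 => ?_
    · rw [← pow_mul, mul_comm, ← h.order, pow_orderOf_eq_one]
    · have := h.pow_inj (a := q) (b := 0) (by omega) (by omega) (by rw [h0, pow_zero])
      omega
  have hzD : x ^ q ∈ D := h.zpowers_le (Subgroup.npow_mem_zpowers x q)
  have hpz := pairOf_below hP hzD
  obtain ⟨g, v, hg, hcol, hvsum, hv0, hvdvd, hvodd⟩ := exists_zColumn hM hB hz hpz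
    fun b hb hbe => by
      obtain ⟨h1, h2⟩ := central_block hM h hP hno hb hbe
      exact ⟨h1, Nat.pow_right_injective le_rfl (h2.trans hdef.symm)⟩
  have hva : ∀ t < q, ∑ χ ∈ B.toFinset, (v χ : ℂ) * topVal T χ t = 0 := by
    intro t ht
    have hpt : PairOf 2 (ebar hB) (Subgroup.zpowers (x ^ (2 * t + 1))) (below D e x) :=
      below_odd h e t ▸ pairOf_below hP (pow_mem h.mem_x _)
    have h0 := sum_colOf_mul_conj hM hB hpz hpt fun a ha _ => by
      have h1 : orderOf (x ^ (2 * t + 1)) = 2 * q := by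
        rw [← Nat.card_zpowers, h.zpowers_odd t, Nat.card_zpowers, h.order]
      rw [← ha, show a * x ^ q * a⁻¹ = MulAut.conj a (x ^ q) from rfl, MulEquiv.orderOf_eq, hz] at h1
      omega
    simp only [colOf_odd h T, hcol, map_mul, map_natCast, conj_topVal hB h hP hζ T _ ht] at h0
    refine mul_left_cancel₀ (mul_ne_zero hg (Nat.cast_ne_zero.2 T.deg_pos.ne' : (T.deg : ℂ) ≠ 0)) ?_
    rw [mul_zero, ← h0, Finset.mul_sum]
    exact Finset.sum_congr rfl fun χ _ => by ring
  have hvc : ∀ i ∈ Finset.Ico 1 (q / 2), ∑ χ ∈ B.toFinset, v χ * C.coeff χ i = 0 := by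
    intro i hi
    rw [Finset.mem_Ico] at hi
    have h2q : 2 ∣ q := ⟨q / 2, hm.symm⟩
    have h0 : ∑ t ∈ Finset.range (q / 2), eta ζ i (2 * t + 1) *
        ∑ χ ∈ B.toFinset, (v χ : ℂ) * topVal T χ t = 0 :=
      Finset.sum_eq_zero fun t ht => by
        rw [hva t (by have := Finset.mem_range.1 ht; omega), mul_zero]
    simp only [Finset.mul_sum] at h0
    rw [Finset.sum_comm, Finset.sum_congr rfl
      (g := fun χ => (q : ℂ) * ((v χ : ℂ) * (C.coeff χ i : ℂ))) fun χ hχ => by
        have hval : ∀ t ∈ Finset.range (q / 2), eta ζ i (2 * t + 1) * ((v χ : ℂ) * topVal T χ t) =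
            (v χ : ℂ) * ((C.coeff χ 0 : ℂ) * eta ζ i (2 * t + 1)) +
              ∑ l ∈ Finset.Ico 1 (q / 2), (v χ : ℂ) * (C.coeff χ l : ℂ) *
                (eta ζ i (2 * t + 1) * eta ζ l (2 * t + 1)) := fun t ht => by
          rw [C.value χ (Set.mem_toFinset.1 hχ) t (by have := Finset.mem_range.1 ht; omega),
            mul_add, mul_add, Finset.mul_sum, Finset.mul_sum]
          congr 1
          · ring
          · exact Finset.sum_congr rfl fun l _ => by ring
        rw [Finset.sum_congr rfl hval, Finset.sum_add_distrib, ← Finset.mul_sum, ← Finset.mul_sum,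
          sum_half_eta h2q hζ hi.1 (by omega), mul_zero, mul_zero, zero_add, Finset.sum_comm,
          Finset.sum_eq_single i]
        · rw [← Finset.mul_sum, sum_half_eta_mul h2q hζ hi.1 hi.2 hi.1 hi.2, if_pos rfl]; ring
        · intro l hl hli
          rw [Finset.mem_Ico] at hl
          rw [← Finset.mul_sum, sum_half_eta_mul h2q hζ hi.1 hi.2 hl.1 hl.2,
            if_neg (Ne.symm hli), mul_zero]
        · exact fun hn => absurd (Finset.mem_Ico.2 hi) hn, ← Finset.mul_sum] at h0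
    have h1 := (mul_eq_zero.1 h0).resolve_left (Nat.cast_ne_zero.2 (by omega))
    exact_mod_cast h1
  have hrow := row_sq_le B.toFinset (Finset.Ico 1 (q / 2)) C.coeff v
    (fun i hi l hl => C.norm_pos i (Finset.mem_Ico.1 hi).1 (Finset.mem_Ico.1 hi).2 l
      (Finset.mem_Ico.1 hl).1 (Finset.mem_Ico.1 hl).2)
    hvc (fun χ hχ => hv0 χ (Set.mem_toFinset.1 hχ))
  have hnorm : ∀ i, 1 ≤ i → i < q / 2 →
      ∑ χ ∈ B.toFinset, C.coeff χ i * C.coeff χ i = 2 := fun i hi hiq => by
    rw [C.norm_pos i hi hiq i hi hiq, if_pos rfl]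
  -- the characters of height zero avoid the other coordinates
  have hex : ∀ χ ∈ H, ∀ i, 1 ≤ i → i < q / 2 → C.coeff χ i = 0 := by
    rcases Nat.lt_or_ge q 4 with hq4 | hq4
    · intro χ _ i hi hiq
      omega
    have hblk : IsBlockIdem (Subgroup.centralizer ({x} : Set G)) (below D e x) :=
      isBlockIdem_of_pairOf (pairOf_below hP h.mem_x)
    obtain ⟨y, hy⟩ : ∃ y : G, (below D e x).coeff y ≠ 0 := by
      by_contra hcon
      push Not at hcon
      exact hblk.ne_zero (MonoidAlgebra.ext (Finsupp.ext fun y => by simpa using hcon y))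
    have hyK : y ∈ Subgroup.centralizer ({x} : Set G) := by
      by_contra hn
      exact hy (hblk.mem.supp y hn)
    have hΦ : MemLocalRing M (blockCoeff T.blk ⟨y, hyK⟩) :=
      CfsgLib.Blocks.blockCoeff_mem T.isBlock _
    have hyc : (below D e x).coeff y = red M ⟨blockCoeff T.blk ⟨y, hyK⟩, hΦ⟩ := by
      refine ((congrArg (fun z => z.coeff y) T.eIn_eq).symm.trans (coeff_eIn _ _)).trans ?_
      refine congrArg (red M) (Subtype.ext ?_)
      show subgroupBlockCoeff _ T.blk y = _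
      rw [subgroupBlockCoeff, dif_pos hyK]
    have hΦ' : ¬ MemLocalIdeal M (blockCoeff T.blk ⟨y, hyK⟩) := fun hmem => by
      refine hy (hyc.trans ?_)
      rw [← map_zero (red M)]
      exact CfsgLib.Blocks.memLocalIdeal_sub_iff.1 (by simpa using hmem)
    have hreg : IsPRegular 2 (⟨y, hyK⟩ : Subgroup.centralizer ({x} : Set G)) := by
      intro hdvd
      refine hΦ' ?_
      rw [blockCoeff_singular hM T.isBlock _ hdvd]
      exact memIdeal_zero hM
    set μ := minExp 2 B with hμ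
    obtain ⟨J, hJ⟩ : 2 ^ (μ + 1) ∣ (Subgroup.centralizer ({x} : Set G)).index * T.deg := by
      rw [Nat.prime_two.pow_dvd_iff_le_factorization
        (Nat.mul_ne_zero Subgroup.index_ne_zero_of_finite T.deg_pos.ne'),
        Nat.factorization_mul Subgroup.index_ne_zero_of_finite T.deg_pos.ne', Finsupp.add_apply]
      have h1 := T.deg_fact
      have h2 : ((Nat.card G).factorization) 2 =
          (Nat.card (Subgroup.centralizer ({x} : Set G))).factorization 2 +
            (Subgroup.centralizer ({x} : Set G)).index.factorization 2 := by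
        rw [← Subgroup.card_mul_index (Subgroup.centralizer ({x} : Set G)),
          Nat.factorization_mul Nat.card_pos.ne' Subgroup.index_ne_zero_of_finite,
          Finsupp.add_apply]
      have h3 : (2 * q).factorization 2 = k + 1 := by
        rw [hk, ← pow_succ', Nat.prime_two.factorization_pow, Finsupp.single_eq_same]
      have h4 : blockDefect 2 B = k + 2 := Nat.pow_right_injective le_rfl
        (show 2 ^ blockDefect 2 B = 2 ^ (k + 2) by rw [hdef, hk, pow_add, mul_comm]; rfl)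
      rw [CfsgLib.BlockReg.blockDefect_eq, ← hμ] at h4
      omega
    refine no_exceptional hM hk hq4 hζ B.toFinset H hHS hcard C.coeff hc0.1 hc0.2 hnorm
      C.orth_zero (fun χ hχ => hrow χ (hHS hχ)) (fun χ t => topVal T χ t)
      (fun χ hχ t ht => C.value χ (Set.mem_toFinset.1 hχ) t (by omega))
      (StarAction.redDeg 2 B) hred J
      (fun χ => ((((Subgroup.centralizer ({x} : Set G)).index * T.deg : ℕ) : ℂ)) ^ 2 /
        (2 * q : ℕ) / (χ : G → ℂ) 1 ^ 2) (fun χ hχ => ?_) _ hΦ hΦ' fun t ht => ?_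
    · have h1 : (charDegree (χ : G → ℂ) : ℂ) =
          (StarAction.redDeg 2 B χ : ℂ) * (2 : ℂ) ^ μ := by
        rw [← StarAction.redDeg_mul (p := 2) (hHB χ hχ).1]; push_cast; rfl
      rw [hJ, ← CfsgLib.BlockReg.deg_cast χ, h1]
      have : (q : ℂ) ≠ 0 := Nat.cast_ne_zero.2 (by omega)
      have : (StarAction.redDeg 2 B χ : ℂ) ≠ 0 :=
        Nat.cast_ne_zero.2 fun h0 => hred χ hχ (h0 ▸ dvd_zero 2)
      push_cast
      field_simp
      ring
    · refine (congrArg (MemLocalIdeal M) ?_).mp (key_congr hM hB h hP hno hζ T hq4 ht hreg)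
      congr 2
      rw [Finset.mul_sum]
      exact Finset.sum_congr rfl fun χ _ => by ring
  -- the count
  obtain ⟨hk', hval⟩ := count_rows B.toFinset H hHS hcard (m := q / 2) (by omega) C.coeff v
    (fun i hi => hnorm i (Finset.mem_Ico.1 hi).1 (Finset.mem_Ico.1 hi).2) hvc hrow
    (fun χ hχ i hi => hex χ hχ i (Finset.mem_Ico.1 hi).1 (Finset.mem_Ico.1 hi).2)
    (by rw [hvsum, hdef]; omega) (fun χ hχ => hv0 χ (Set.mem_toFinset.1 hχ))
    (fun χ hχ => hvodd χ (hHB χ hχ).1 (hHB χ hχ).2)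
    (fun χ hχ hχH => (dvd_pow_self (2 : ℤ) (fun h0 => hχH (Finset.mem_filter.2 ⟨hχ, h0⟩))).trans
      (hvdvd χ (Set.mem_toFinset.1 hχ)))
  have hkB : Nat.card B = q + 3 := by
    rw [Nat.card_eq_fintype_card, ← Set.toFinset_card, hk', hm]
  refine ⟨hkB, blockRank_pos (by norm_num) (block_nonempty hM hB), ?_, hHeq.trans hcard, ?_⟩
  · have := rank_add_q_le hM hB h hP hno
    omega
  · intro χ hχ
    by_cases hχH : χ ∈ H
    · rw [(hHB χ hχH).2]; exact Nat.zero_le 1
    have h2 := Int.natAbs_dvd_natAbs.2 (hvdvd χ hχ)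
    have h3 : (v χ).natAbs = 2 := by
      rcases hval χ (Set.mem_toFinset.2 hχ) hχH with h | h <;> rw [h] <;> rfl
    rw [h3, Int.natAbs_pow] at h2
    exact (Nat.pow_dvd_pow_iff_le_right (le_refl 2)).1 (by simpa using h2)

end CfsgLib.DihBlocks
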