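import Cfsg.Agent.Lib.DihedralBlocks.Group
import Cfsg.Agent.Lib.DihedralBlocks.Column
import Cfsg.Agent.Lib.Blk83.InertialPair
import Cfsg.Agent.Lib.Blk83.PairFusion
import Cfsg.Agent.Lib.BlockRank.RankOne
import Cfsg.Agent.S4689

/-!
# The local blocks of a block with dihedral defect group
-/

set_option autoImplicit false
set_option maxHeartbeats 800000

open Cfsg CfsgLib.Blocks CfsgLib.Blocks.Pairs CfsgLib.BlockRank
open scoped Classical

namespace CfsgLib.DihBlocks

universe u

variable {G : Type u} [Group G] [Finite G] {M : Ideal AlgInt} [M.IsMaximal]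
  [CharP (ResField M) 2]

/-- The idempotent below the pair `(P, e)` at `u`. -/
noncomputable def below (P : Subgroup G) (e : MonoidAlgebra (ResField M) G) (u : G) :
    MonoidAlgebra (ResField M) G :=
  if h : ∃ f, SLE 2 (Subgroup.zpowers u) f P e then h.choose else 0

theorem sle_below {P : Subgroup G} {e : MonoidAlgebra (ResField M) G} (hP : IsPair 2 P e) {u : G}
    (hu : u ∈ P) : SLE 2 (Subgroup.zpowers u) (below P e u) P e := by
  have h := (existsUnique_sle hP (Subgroup.zpowers_le.2 hu)).1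
  rw [below, dif_pos h]
  exact h.choose_spec

theorem pairOf_below {E : MonoidAlgebra (ResField M) G} {P : Subgroup G}
    {e : MonoidAlgebra (ResField M) G} (hP : PairOf 2 E P e) {u : G} (hu : u ∈ P) :
    PairOf 2 E (Subgroup.zpowers u) (below P e u) :=
  (SLE.pairOf_iff (sle_below hP.pair hu)).1 hP

theorem centralizer_zpowers_eq (u : G) :
    Subgroup.centralizer ({u} : Set G) =
      Subgroup.centralizer (Subgroup.zpowers u : Set G) := by
  rw [Subgroup.zpowers_eq_closure, Subgroup.centralizer_closure]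

variable {E e : MonoidAlgebra (ResField M) G} {D : Subgroup G} {x s : G} {q : ℕ}

/-- At a generator of the cyclic part the block has rank one. -/
theorem top_block (hM : IsPModular 2 M) (h : Dih D x s q) (hP : PairOf 2 E D e)
    (hno : NoExt 2 D e) {u : G} (hu : Subgroup.zpowers u = Subgroup.zpowers x)
    {b : Set (IrrCharacter (Subgroup.centralizer ({u} : Set G)))} (hb : IsPBlock M b)
    (hbe : eIn hb = below D e u) :
    blockRank 2 b = 1 ∧ 2 ^ blockDefect 2 b = 2 * q ∧
      MaxIn 2 (Subgroup.centralizer ({u} : Set G)) (eIn hb) (Subgroup.zpowers x) := by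
  have huD : u ∈ D := h.zpowers_le (hu ▸ Subgroup.mem_zpowers u)
  have hux : u ∈ Subgroup.zpowers x := hu ▸ Subgroup.mem_zpowers u
  have hord : orderOf u = 2 * q := by
    rw [← Nat.card_zpowers, hu, Nat.card_zpowers, h.order]
  have ho : 2 < orderOf u := by have := h.two_le; omega
  set Z := Subgroup.zpowers u with hZ
  set K := Subgroup.centralizer ({u} : Set G) with hK
  have hKC : K = Subgroup.centralizer (Z : Set G) := centralizer_zpowers_eq u
  have hle := sle_below hP.pair huD
  rw [← hbe] at hle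
  have hQp := hle.pair_left hP.pair
  obtain ⟨E₀, hE₀⟩ := exists_maxIn hM hb
  obtain ⟨w, hw, hmw⟩ := exists_conj_maxIn hP hno hle
    (hKC ▸ Subgroup.centralizer_le_normalizer _) hKC.ge
    (isBlockIdem_eIn hb).mem.fixed hE₀
  have hwZ : conjSub w Z = Z := h.conjSub_zpowers_eq hux ho
    (hw.le (Subgroup.mem_map_of_mem _ (Subgroup.mem_zpowers u)))
  rw [hwZ] at hw
  rw [SLE.unique hP.pair hw hle, hKC, ← centralizer_conjSub, hwZ, ← hKC] at hmw
  have hDK : D ⊓ K = Subgroup.zpowers x := by
    refine le_antisymm (fun d hd => ?_) (le_inf h.zpowers_le ?_)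
    · obtain ⟨hdD, hdK⟩ := hd
      rcases h.cases d hdD with ⟨i, rfl⟩ | ⟨i, rfl⟩
      · exact Subgroup.npow_mem_zpowers x i
      exfalso
      obtain ⟨k, rfl⟩ := Subgroup.mem_zpowers_iff.1 hux
      have h1 : s * x ^ i * x ^ k * (s * x ^ i)⁻¹ = (x ^ k)⁻¹ := by
        calc _ = (s * x * s⁻¹) ^ k := by rw [conj_zpow]; group
          _ = _ := by rw [h.inv, inv_zpow]
      have h2 : s * x ^ i * x ^ k * (s * x ^ i)⁻¹ = x ^ k := by
        rw [Subgroup.mem_centralizer_singleton_iff.1 hdK, mul_inv_cancel_right]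
      have h3 : (x ^ k) ^ 2 = 1 := by
        rw [sq]; nth_rewrite 1 [← h2]; rw [h1, inv_mul_cancel]
      have := orderOf_le_of_pow_eq_one two_pos h3
      omega
    · rw [← hu]
      exact Subgroup.zpowers_le.2 (Subgroup.mem_centralizer_singleton_iff.2 rfl)
  rw [hDK] at hmw
  have hdef := isDefectGroup_subgroupOf hM hb hmw
  have hcent : (Subgroup.zpowers x).subgroupOf K ≤ Subgroup.center K := by
    intro a ha
    rw [Subgroup.mem_center_iff]
    intro c
    have haZ : (a : G) ∈ Z := hu.symm ▸ ha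
    exact Subtype.ext (Subgroup.mem_centralizer_iff.1 (hKC ▸ c.2 : (c : G) ∈
      Subgroup.centralizer (Z : Set G)) (a : G) haZ).symm
  haveI := Fintype.ofFinite K
  refine ⟨blockRank_eq_one_of_central hM hb hdef hcent, ?_, hmw⟩
  rw [← card_defectGroup hM hb hdef,
    Nat.card_congr (Subgroup.subgroupOfEquivOfLe hmw.le).toEquiv, Nat.card_zpowers, h.order]

theorem local_pair_central_eq {B e f : MonoidAlgebra (ResField M) G} {P Q H : Subgroup G}
    (hH : H = Subgroup.centralizer (Q : Set G))
    (hP : PairOf 2 B P e) (hno : NoExt 2 P e) (hPH : P ≤ H) (hle : SLE 2 Q f P e) :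
    PairOf 2 (down H f) (P.subgroupOf H) (down H e) ∧
      NoExt 2 (P.subgroupOf H) (down H e) := by
  subst hH
  exact CfsgLib.Blk83.local_pair_central hP hno hPH hle

/-- The block at the central involution is nilpotent. -/
theorem central_block (hM : IsPModular 2 M) (h : Dih D x s q) (hP : PairOf 2 E D e)
    (hno : NoExt 2 D e)
    {b : Set (IrrCharacter (Subgroup.centralizer ({x ^ q} : Set G)))} (hb : IsPBlock M b)
    (hbe : eIn hb = below D e (x ^ q)) :
    blockRank 2 b = 1 ∧ 2 ^ blockDefect 2 b = 4 * q := by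
  have hzx : (x ^ q) ∈ Subgroup.zpowers x := Subgroup.npow_mem_zpowers x q
  have hzD : (x ^ q) ∈ D := h.zpowers_le hzx
  have hz2 : (x ^ q) * (x ^ q) = 1 := by
    rw [← pow_add, ← two_mul, ← h.order, pow_orderOf_eq_one]
  have hDH : D ≤ (Subgroup.centralizer ({x ^ q} : Set G)) := fun d hd => by
    rw [Subgroup.mem_centralizer_singleton_iff]
    rcases h.conj_eq hd hzx with h1 | h1
    · exact mul_inv_eq_iff_eq_mul.1 h1
    · rw [inv_eq_of_mul_eq_one_right hz2] at h1
      exact mul_inv_eq_iff_eq_mul.1 h1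
  have hle := sle_below hP.pair hzD
  rw [← hbe] at hle
  obtain ⟨h1, h2⟩ := local_pair_central_eq (centralizer_zpowers_eq (x ^ q)) hP hno hDH hle
  rw [show down (Subgroup.centralizer ({x ^ q} : Set G)) (eIn hb) = ebar hb by rw [eIn, down_up]] at h1
  have hnil : CfsgLib.Blk83.NilPairs 2 (ebar hb) := by
    refine CfsgLib.Blk83.nilPairs_of_below h1 h2 fun R g hRg y hy hreg => ?_
    have hRD : R.map (Subgroup.centralizer ({x ^ q} : Set G)).subtype ≤ D := by
      rintro _ ⟨r, hr, rfl⟩
      exact hRg.le hr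
    have hyN : (y : G) ∈ Subgroup.normalizer ((R.map (Subgroup.centralizer ({x ^ q} : Set G)).subtype : Subgroup G) : Set G) :=
      Subgroup.le_normalizer_map (Subgroup.centralizer ({x ^ q} : Set G)).subtype ⟨y, hy.1, rfl⟩
    have hyz : (y : G) * x ^ q * (y : G)⁻¹ = x ^ q := by
      rw [Subgroup.mem_centralizer_singleton_iff.1 y.2, mul_inv_cancel_right]
    have hreg' : IsPRegular 2 (y : G) := by
      unfold IsPRegular at hreg ⊢
      rwa [Subgroup.orderOf_coe]
    have h3 := h.mem_centralizer_of_regular hRD hyN hreg' hyz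
    refine Subgroup.mem_centralizer_iff.2 fun r hr => Subtype.ext ?_
    exact Subgroup.mem_centralizer_iff.1 h3 r ⟨r, hr, rfl⟩
  haveI := Fintype.ofFinite (Subgroup.centralizer ({x ^ q} : Set G))
  refine ⟨(Cfsg.Agent.S4689.result 2 M hM b
    ((CfsgLib.Blk83.isNilpotentBlock_iff hM hb).2 hnil)).1, ?_⟩
  rw [← card_defectGroup hM hb ((isDefectGroup_iff_maxR hM hb).2 (maxR_of_noExt h1 h2)),
    Nat.card_congr (Subgroup.subgroupOfEquivOfLe hDH).toEquiv, h.card]

end CfsgLib.DihBlocks
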