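import Cfsg.Agent.Lib.DihedralBlocks.Local
import Cfsg.Agent.Lib.DihedralBlocks.Center
import Cfsg.Agent.Lib.BlockRank.RankOne

/-!
# The column at a generator of the cyclic part of a dihedral defect group

The values at `x ^ j`, for `j` odd, are the values of one integral polynomial at the conjugate
roots of unity.
-/

set_option autoImplicit false
set_option maxHeartbeats 1600000
set_option synthInstance.maxHeartbeats 400000

open scoped ComplexConjugate Classical
open Cfsg CfsgLib.Blocks CfsgLib.Blocks.Pairs CfsgLib.BlockRank Polynomial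

namespace CfsgLib.DihBlocks

universe u

variable {G : Type u} [Group G] [Fintype G] {M : Ideal AlgInt} [M.IsMaximal]
  [CharP (ResField M) 2]

omit [CharP (ResField M) 2] in
/-- Exact idempotents only depend on the reduced idempotent. -/
theorem exactIn_congr {H K : Subgroup G} (hHK : H = K) {b : Set (IrrCharacter H)}
    (hb : IsPBlock M b) {b' : Set (IrrCharacter K)} (hb' : IsPBlock M b')
    (h : eIn hb = eIn hb') : exactIn H b = exactIn K b' :=
  eq_exactIn_of_rd hb' (loc_exactIn hb) (exactIn_idem H b) (hHK ▸ inCenter_exactIn H b)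
    ((rd_exactIn hb).trans h)

/-- The norm of a column through the exact idempotent. -/
theorem sum_colOf_self_eq {p : ℕ} [Fact p.Prime] [CharP (ResField M) p] (hM : IsPModular p M)
    {B : Set (IrrCharacter G)} [Fintype B] (hB : IsPBlock M B) {u : G}
    {f : MonoidAlgebra (ResField M) G} (h : PairOf p (ebar hB) (Subgroup.zpowers u) f)
    {H : Subgroup G} (hH : H = Subgroup.centralizer ({u} : Set G)) {b : Set (IrrCharacter H)}
    (hb : IsPBlock M b) (hbe : eIn hb = f) :
    ∑ χ ∈ B.toFinset, colOf M u f χ * conj (colOf M u f χ) =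
      (Nat.card H : ℂ) * (exactIn H b).coeff 1 := by
  subst hH hbe
  haveI := Fintype.ofFinite b
  rw [sum_colOf_self hM hB hb h]
  have h1 : (exactIn (Subgroup.centralizer ({u} : Set G)) b).coeff 1 = blockCoeff b 1 := by
    simp [exactIn, subgroupBlockCoeff, Subgroup.one_mem]
    rfl
  rw [h1, blockCoeff, finsum_mem_eq_toFinset_sum, ← mul_assoc,
    mul_inv_cancel₀ (Nat.cast_ne_zero.2 Nat.card_pos.ne'), one_mul, Nat.cast_sum]
  refine Finset.sum_congr rfl fun φ _ => ?_
  rw [Nat.cast_pow, CfsgLib.BlockReg.deg_cast, sq]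
  congr 1
  rw [← CfsgLib.BlockReg.deg_cast, map_natCast]

omit [CharP (ResField M) 2] in
theorem colOf_eq_colVal {u : G} {H : Subgroup G} (hH : H = Subgroup.centralizer ({u} : Set G))
    {b : Set (IrrCharacter H)} (hb : IsPBlock M b) (χ : IrrCharacter G) :
    colOf M u (eIn hb) χ = colVal (exactIn H b) u χ := by
  subst hH
  obtain ⟨hb', he⟩ := subBlock_spec (isBlockIdem_eIn hb)
  rw [colOf, eIn_injective hb' hb he]

/-- What is known about the column at `x`. -/
structure TopData (M : Ideal AlgInt) [M.IsMaximal] (B : Set (IrrCharacter G))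
    (f : MonoidAlgebra (ResField M) G) (x : G) (q : ℕ) (ζ : ℂ) where
  blk : Set (IrrCharacter (Subgroup.centralizer ({x} : Set G)))
  isBlock : IsPBlock M blk
  eIn_eq : eIn isBlock = f
  deg : ℕ
  deg_pos : 0 < deg
  brauer : Subgroup.centralizer ({x} : Set G) → ℂ
  poly : IrrCharacter G → ℤ[X]
  deg_fact : deg.factorization 2 + (2 * q).factorization 2 =
    (Nat.card (Subgroup.centralizer ({x} : Set G))).factorization 2
  brauer_one : brauer 1 = deg
  brauer_inv : ∀ r, brauer r⁻¹ = conj (brauer r)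
  coeff_regular : ∀ r : Subgroup.centralizer ({x} : Set G), IsPRegular 2 r →
    (Nat.card (Subgroup.centralizer ({x} : Set G)) : ℂ) * blockCoeff blk r =
      (deg : ℂ) * (2 * q : ℕ) * conj (brauer r)
  shifted : ∀ (χ : IrrCharacter G) (m : ℕ) (r : Subgroup.centralizer ({x} : Set G)),
    IsPRegular 2 r →
      colVal (exactIn (Subgroup.centralizer ({x} : Set G)) blk) (x ^ m * (r : G)) χ =
        aeval (ζ ^ m) (poly χ) * brauer r
  parity : ∀ χ ∈ B, (charDegree (χ : G → ℂ)).factorization 2 = CfsgLib.BlockReg.minExp 2 B →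
    ¬ (2 : ℤ) ∣ (poly χ).eval 1

variable {D : Subgroup G} {x s : G} {q : ℕ} {e : MonoidAlgebra (ResField M) G}
  {B : Set (IrrCharacter G)}

theorem exists_topData (hM : IsPModular 2 M) (hB : IsPBlock M B) (h : Dih D x s q)
    (hP : PairOf 2 (ebar hB) D e) (hno : NoExt 2 D e) {ζ : ℂ}
    (hζ : IsPrimitiveRoot ζ (2 * q)) : Nonempty (TopData M B (below D e x) x q ζ) := by
  have hpair := pairOf_below hP h.mem_x
  obtain ⟨b, hb, hbe, hind⟩ := exists_induced hM hB hpair
  haveI := Fintype.ofFinite (Subgroup.centralizer ({x} : Set G))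
  haveI := Fintype.ofFinite b
  obtain ⟨hl, hdef, -⟩ := top_block hM h hP hno rfl hb hbe
  obtain ⟨φ₀, nc, d, hφ₀, hdd, hsum⟩ := exists_rankOne_data hM hb hl
  have h1 : IsPRegular 2 (1 : (Subgroup.centralizer ({x} : Set G))) := by simp [IsPRegular]
  rw [hdef] at hsum
  obtain ⟨φ₁, hφ₁⟩ := CfsgLib.BlockReg.block_nonempty hM hb
  -- the degree
  have hone : ∀ φ ∈ b, (charDegree (φ : (Subgroup.centralizer ({x} : Set G)) → ℂ) : ℂ) = (d φ : ℂ) * φ₀ 1 := fun φ hφ => by
    rw [CfsgLib.BlockReg.deg_cast]; exact hdd φ hφ 1 h1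
  obtain ⟨g, hg⟩ : ∃ g : ℤ, φ₀ 1 = (g : ℂ) :=
    ⟨∑ ψ ∈ b.toFinset, nc ψ * (charDegree (ψ : (Subgroup.centralizer ({x} : Set G)) → ℂ) : ℤ), by
      rw [hφ₀]
      push_cast
      exact Finset.sum_congr rfl fun ψ _ => by rw [CfsgLib.BlockReg.deg_cast]⟩
  have hgdeg : ∀ φ ∈ b, (charDegree (φ : (Subgroup.centralizer ({x} : Set G)) → ℂ) : ℤ) = (d φ : ℤ) * g := fun φ hφ => by
    have := hone φ hφ
    rw [hg] at this
    exact_mod_cast this
  have hgpos : 0 < g := by
    have h2 := hgdeg φ₁ hφ₁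
    have h3 := CfsgLib.BlockReg.deg_pos φ₁
    nlinarith [Int.natCast_nonneg (d φ₁)]
  obtain ⟨γ, rfl⟩ : ∃ γ : ℕ, g = γ := ⟨g.toNat, (Int.toNat_of_nonneg hgpos.le).symm⟩
  have hgdeg' : ∀ φ ∈ b, charDegree (φ : (Subgroup.centralizer ({x} : Set G)) → ℂ) = d φ * γ := fun φ hφ => by
    exact_mod_cast hgdeg φ hφ
  have hγ : 0 < γ := by exact_mod_cast hgpos
  rw [Int.cast_natCast] at hg
  -- some multiplicity is odd
  have hnd : ∑ ψ ∈ b.toFinset, nc ψ * (d ψ : ℤ) = 1 := by
    refine mul_right_cancel₀ (b := (γ : ℤ)) (by exact_mod_cast hγ.ne') ?_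
    rw [one_mul, Finset.sum_mul]
    have h2 : ((∑ ψ ∈ b.toFinset, nc ψ * (d ψ : ℤ) * (γ : ℤ) : ℤ) : ℂ) = ((γ : ℤ) : ℂ) := by
      rw [Int.cast_natCast, ← hg, hφ₀, Int.cast_sum]
      refine Finset.sum_congr rfl fun ψ hψ => ?_
      rw [← CfsgLib.BlockReg.deg_cast, hgdeg' ψ (Set.mem_toFinset.1 hψ)]
      push_cast
      ring
    exact_mod_cast h2
  obtain ⟨φ₂, hφ₂, hodd⟩ : ∃ φ ∈ b, ¬ 2 ∣ d φ := by
    by_contra hcon
    push Not at hcon
    have : (2 : ℤ) ∣ ∑ ψ ∈ b.toFinset, nc ψ * (d ψ : ℤ) := Finset.dvd_sum fun ψ hψ =>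
      Dvd.dvd.mul_left (Int.natCast_dvd_natCast.2 (hcon ψ (Set.mem_toFinset.1 hψ))) _
    rw [hnd] at this
    norm_num at this
  have hfacd : ∀ φ ∈ b, (charDegree (φ : (Subgroup.centralizer ({x} : Set G)) → ℂ)).factorization 2 =
      (d φ).factorization 2 + γ.factorization 2 := fun φ hφ => by
    have hd0 : d φ ≠ 0 := fun h0 => (CfsgLib.BlockReg.deg_pos φ).ne'
      (by rw [hgdeg' φ hφ, h0, zero_mul])
    rw [hgdeg' φ hφ, Nat.factorization_mul hd0 hγ.ne', Finsupp.add_apply]
  have hmin : γ.factorization 2 = CfsgLib.BlockReg.minExp 2 b := by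
    obtain ⟨φ₃, hφ₃, hm⟩ := CfsgLib.BlockReg.exists_minExp (p := 2) ⟨φ₁, hφ₁⟩
    refine le_antisymm ?_ ?_
    · rw [← hm, hfacd φ₃ hφ₃]
      exact Nat.le_add_left _ _
    · refine (CfsgLib.BlockReg.minExp_le hφ₂).trans ?_
      rw [hfacd φ₂ hφ₂, Nat.factorization_eq_zero_of_not_dvd hodd, zero_add]
  -- multiplicities
  choose m i hmi using fun χ : IrrCharacter G =>
    exists_blockPart_translate (G := G) (C := (Subgroup.centralizer ({x} : Set G))) (x := x) rfl (ζ := ζ) (by rwa [h.order]) χ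
  have hxK : x ∈ (Subgroup.centralizer ({x} : Set G)) := Subgroup.mem_centralizer_singleton_iff.2 rfl
  have hz : (⟨x, hxK⟩ : (Subgroup.centralizer ({x} : Set G))) ∈ Subgroup.center (Subgroup.centralizer ({x} : Set G)) := by
    rw [Subgroup.mem_center_iff]
    exact fun c => Subtype.ext (Subgroup.mem_centralizer_singleton_iff.mp c.2)
  choose ι hι using exists_central_root (G := (Subgroup.centralizer ({x} : Set G))) (n := 2 * q) (ζ := ζ)
    (Nat.mul_pos two_pos (by have := h.two_le; omega)) hζ hz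
    (Subtype.ext (by rw [SubgroupClass.coe_pow, ← h.order]; exact pow_orderOf_eq_one x))
  have hpow : ∀ (φ : IrrCharacter (Subgroup.centralizer ({x} : Set G))) (k : ℕ) (c : (Subgroup.centralizer ({x} : Set G))),
      (φ : (Subgroup.centralizer ({x} : Set G)) → ℂ) ((⟨x, hxK⟩ : (Subgroup.centralizer ({x} : Set G))) ^ k * c) = ζ ^ (k * ι φ) * (φ : (Subgroup.centralizer ({x} : Set G)) → ℂ) c := by
    intro φ k
    induction k with
    | zero => simp
    | succ k ih =>
      intro c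
      rw [pow_succ', mul_assoc, hι, ih, Nat.succ_mul, pow_add]
      ring
  refine ⟨⟨b, hb, hbe, γ, hγ, φ₀,
    fun χ => ∑ φ ∈ b.toFinset, Polynomial.C ((m χ φ : ℤ) * (d φ : ℤ)) * X ^ ι φ, ?_, hg,
    fun r => ?_, fun r hr => ?_, fun χ k r hr => ?_, fun χ hχ hh => ?_⟩⟩
  · rw [hmin, ← hdef, Nat.factorization_pow, Finsupp.smul_apply, smul_eq_mul,
      Nat.prime_two.factorization, Finsupp.single_eq_same, mul_one,
      CfsgLib.BlockReg.blockDefect_eq]
    obtain ⟨φ₃, hφ₃, hm⟩ := CfsgLib.BlockReg.exists_minExp (p := 2) ⟨φ₁, hφ₁⟩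
    have := CfsgLib.BlockReg.factorization_deg_le (p := 2) φ₃
    omega
  · rw [hφ₀]
    simp only [map_sum, map_mul, map_intCast]
    exact Finset.sum_congr rfl fun ψ _ => by rw [CfsgLib.Char.IsIrrCharacter.apply_inv ψ.2]
  · rw [blockCoeff, finsum_mem_eq_toFinset_sum, ← mul_assoc,
      mul_inv_cancel₀ (Nat.cast_ne_zero.2 Nat.card_pos.ne'), one_mul, ← hsum, Nat.cast_sum,
      Finset.mul_sum, Finset.sum_mul]
    refine Finset.sum_congr rfl fun φ hφ => ?_
    rw [hdd φ (Set.mem_toFinset.1 hφ) r hr, hdd φ (Set.mem_toFinset.1 hφ) 1 h1, hg, map_mul,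
      map_natCast]
    push_cast
    ring
  · rw [colVal, ← Finset.sum_subset (Finset.subset_univ (Finset.univ.filter fun c => c ∈ (Subgroup.centralizer ({x} : Set G))))
      (fun c _ hc => by
        have : c ∉ (Subgroup.centralizer ({x} : Set G)) := fun hh => hc (Finset.mem_filter.2 ⟨Finset.mem_univ _, hh⟩)
        simp only [exactIn, coeff_ofFun, subgroupBlockCoeff, dif_neg this, zero_mul]),
      Finset.sum_subtype (Finset.univ.filter fun c => c ∈ (Subgroup.centralizer ({x} : Set G))) (p := fun c => c ∈ (Subgroup.centralizer ({x} : Set G)))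
        (F := (inferInstance : Fintype (Subgroup.centralizer ({x} : Set G)))) (fun c => by simp)]
    have hterm : ∀ c : (Subgroup.centralizer ({x} : Set G)), (χ : G → ℂ) (x ^ k * (r : G) * (c : G)) =
        ∑ φ : IrrCharacter (Subgroup.centralizer ({x} : Set G)), (m χ φ : ℂ) * ζ ^ (k * ι φ) * (φ : (Subgroup.centralizer ({x} : Set G)) → ℂ) (r * c) := by
      intro c
      have h2 := (hmi χ).1 ((⟨x, hxK⟩ : (Subgroup.centralizer ({x} : Set G))) ^ k * (r * c))
      simp only [Subgroup.coe_mul, SubgroupClass.coe_pow] at h2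
      rw [mul_assoc, h2]
      exact Finset.sum_congr rfl fun φ _ => by rw [hpow, mul_assoc]
    simp only [exactIn, coeff_ofFun, subgroupBlockCoeff, SetLike.coe_mem, dite_true,
      Subtype.coe_eta, hterm, Finset.mul_sum]
    rw [Finset.sum_comm]
    simp only [map_sum, map_mul, aeval_X_pow, map_intCast, eq_intCast, Finset.sum_mul]
    refine (Finset.sum_congr rfl fun φ _ => ?_).trans
      (Finset.sum_subset (Finset.subset_univ b.toFinset)
        (f := fun φ => (m χ φ : ℂ) * ζ ^ (k * ι φ) * (blockInd b φ * (φ : (Subgroup.centralizer ({x} : Set G)) → ℂ) r))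
        fun φ _ hφ => by
          have : φ ∉ b := fun hh => hφ (Set.mem_toFinset.2 hh)
          simp [blockInd, this]).symm |>.trans (Finset.sum_congr rfl fun φ hφ => ?_)
    · rw [← omega_idemC b φ, ← sum_center_mul, Finset.mul_sum]
      refine Finset.sum_congr rfl fun c _ => ?_
      rw [coe_idemC, coeff_ofFun]
      ring
    · rw [blockInd, if_pos (Set.mem_toFinset.1 hφ), one_mul,
        hdd φ (Set.mem_toFinset.1 hφ) r hr, pow_mul]
      push_cast
      ring
  · intro hdvd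
    refine not_memIdeal_degree_blockPart hM hind hχ hh (m χ) (hmi χ).1 ?_
    have hev : ((∑ φ ∈ b.toFinset, Polynomial.C ((m χ φ : ℤ) * (d φ : ℤ)) * X ^ ι φ).eval 1 : ℤ) =
        ∑ φ ∈ b.toFinset, (m χ φ : ℤ) * (d φ : ℤ) := by
      simp [Polynomial.eval_finsetSum]
    rw [hev] at hdvd
    have h3 : MemLocalIdeal M (((∑ φ ∈ b.toFinset, (m χ φ : ℤ) * (d φ : ℤ) : ℤ)) : ℂ) :=
      (CfsgLib.BlockReg.memIdeal_intCast_iff hM _).2 hdvd
    have h4 := CfsgLib.BlockReg.memIdeal_mul_right hM h3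
      (CfsgLib.BlockReg.natCast_div_memRing hM (n := γ)
        (pow_ne_zero (CfsgLib.BlockReg.minExp 2 b) two_ne_zero) (Or.inr (by
          rw [Nat.prime_two.factorization_pow, Finsupp.single_eq_same, hmin])))
    convert h4 using 1
    rw [Int.cast_sum, Finset.sum_mul]
    refine Finset.sum_congr rfl fun φ hφ => ?_
    rw [hgdeg' φ (Set.mem_toFinset.1 hφ)]
    push_cast
    ring

end CfsgLib.DihBlocks
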