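import Cfsg.Agent.Lib.DihedralBlocks.Coords
import Cfsg.Agent.Lib.ModularCount.Basic

/-!
# The reduction of the traces of the powers of `x` in the local block

The trace to `G` of `x ^ j` times the idempotent at `x`, cut down to the centralizer of `x` and
multiplied by that idempotent, is `x ^ j + x ^ (-j)` times the idempotent.
-/

set_option autoImplicit false
set_option maxHeartbeats 1600000
set_option synthInstance.maxHeartbeats 400000

open scoped ComplexConjugate Classical
open Cfsg CfsgLib.Blocks CfsgLib.Blocks.Pairs CfsgLib.BlockRank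

namespace CfsgLib.DihBlocks

universe u v

section Tr

variable {F : Type v} [Field F] {G : Type u} [Group G] [Fintype G]

/-- The trace from `K` to `G`. -/
noncomputable def traceTo (K : Subgroup G) (a : MonoidAlgebra F G) : MonoidAlgebra F G :=
  ∑ t : G ⧸ K, conjA t.out a

theorem conjA_out {K : Subgroup G} {a : MonoidAlgebra F G} (ha : ConjFixed K a) (t : G) :
    conjA (QuotientGroup.mk t : G ⧸ K).out a = conjA t a := by
  obtain ⟨k, hk⟩ := QuotientGroup.mk_out_eq_mul K t
  rw [hk, ← conjA_conjA, conjFixed_iff.1 ha k k.2]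

theorem inCenter_traceTo {K : Subgroup G} {a : MonoidAlgebra F G} (ha : ConjFixed K a) :
    InCenter (⊤ : Subgroup G) (traceTo K a) := by
  refine ⟨fun x hx => absurd (Subgroup.mem_top x) hx, conjFixed_iff.2 fun g _ => ?_⟩
  rw [traceTo, conjA_sum]
  refine Fintype.sum_equiv (MulAction.toPerm g) _ _ fun t => ?_
  rw [conjA_conjA, MulAction.toPerm_apply, ← conjA_out ha (g * t.out)]
  congr 3
  conv_rhs => rw [← QuotientGroup.out_eq' t]
  rfl

theorem conjA_single (t g : G) :
    conjA t (MonoidAlgebra.single g (1 : F)) = MonoidAlgebra.single (t * g * t⁻¹) 1 := by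
  ext y
  rw [coeff_conjA, MonoidAlgebra.coeff_single, MonoidAlgebra.coeff_single, Finsupp.single_apply,
    Finsupp.single_apply]
  refine if_congr ⟨fun h => ?_, fun h => ?_⟩ rfl rfl
  · rw [h]; group
  · rw [← h]; group

theorem inCenter_single {K : Subgroup G} {g : G} (hg : g ∈ K) (hc : ∀ k ∈ K, k * g = g * k) :
    InCenter K (MonoidAlgebra.single g (1 : F)) := by
  refine ⟨fun y hy => ?_, conjFixed_iff.2 fun k hk => ?_⟩
  · rw [MonoidAlgebra.coeff_single, Finsupp.single_apply, if_neg]
    exact fun h => hy (h ▸ hg)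
  · rw [conjA_single, hc k hk, mul_inv_cancel_right]

theorem coeff_single_mul (g y : G) (a : MonoidAlgebra F G) :
    (MonoidAlgebra.single g (1 : F) * a).coeff y = a.coeff (g⁻¹ * y) := by
  rw [coeff_mul_group, Finset.sum_eq_single g]
  · rw [MonoidAlgebra.coeff_single, Finsupp.single_eq_same, one_mul]
  · intro z _ hz
    rw [MonoidAlgebra.coeff_single, Finsupp.single_eq_of_ne hz, zero_mul]
  · exact fun h => absurd (Finset.mem_univ g) h

end Tr

variable {G : Type u} [Group G] [Fintype G] {M : Ideal AlgInt} [M.IsMaximal]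
  [CharP (ResField M) 2] {D : Subgroup G} {x s : G} {q : ℕ} {E e : MonoidAlgebra (ResField M) G}

theorem Dih.inCenter_single_pow (h : Dih D x s q) (j : ℕ) :
    InCenter (Subgroup.centralizer ({x} : Set G))
      (MonoidAlgebra.single (x ^ j) (1 : ResField M)) := by
  refine inCenter_single (pow_mem (Subgroup.mem_centralizer_singleton_iff.2 rfl) j) fun k hk => ?_
  exact (Commute.pow_right (Subgroup.mem_centralizer_singleton_iff.1 hk : Commute k x) j)

/-- The local image of the trace of `x ^ j`. -/
theorem trunc_traceTo_mul (hM : IsPModular 2 M) (h : Dih D x s q) (hP : PairOf 2 E D e)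
    (hno : NoExt 2 D e) (j : ℕ) :
    trunc (Subgroup.zpowers x) (traceTo (Subgroup.centralizer ({x} : Set G))
        (MonoidAlgebra.single (x ^ j) (1 : ResField M) * below D e x)) * below D e x =
      (MonoidAlgebra.single (x ^ j) (1 : ResField M) + MonoidAlgebra.single (x ^ j)⁻¹ 1) *
        below D e x := by
  set f := below D e x with hf
  have hpair := pairOf_below hP h.mem_x
  have hblk : IsBlockIdem (Subgroup.centralizer ({x} : Set G)) f := isBlockIdem_of_pairOf hpair
  obtain ⟨b, hb, hbe⟩ := exists_eIn_eq hblk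
  obtain ⟨-, -, hmax⟩ := top_block hM h hP hno rfl hb hbe
  rw [hbe] at hmax
  have hKC := centralizer_zpowers_eq x
  set y := MonoidAlgebra.single (x ^ j) (1 : ResField M) * f with hy
  have hyc : InCenter (Subgroup.centralizer ({x} : Set G)) y :=
    (h.inCenter_single_pow j).mul hblk.mem
  let Φ : G ⧸ Subgroup.centralizer ({x} : Set G) → MonoidAlgebra (ResField M) G :=
    fun t => trunc (Subgroup.zpowers x) (conjA t.out y) * f
  have hsum : trunc (Subgroup.zpowers x) (traceTo (Subgroup.centralizer ({x} : Set G)) y) * f =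
      ∑ t, Φ t := by
    rw [traceTo, trunc_sum, Finset.sum_mul]
  rw [hsum]
  have hΦ : ∀ t : G, Φ (QuotientGroup.mk t) =
      trunc (Subgroup.zpowers x) (conjA t y) * f := fun t => by
    simp only [Φ, conjA_out hyc.fixed]
  have hinv : ∀ (γ : Subgroup.zpowers x) (t : G ⧸ Subgroup.centralizer ({x} : Set G)),
      Φ (γ • t) = Φ t := by
    intro γ t
    obtain ⟨t, rfl⟩ := QuotientGroup.mk_surjective t
    rw [show γ • (QuotientGroup.mk t : G ⧸ Subgroup.centralizer ({x} : Set G)) =
      QuotientGroup.mk ((γ : G) * t) from rfl, hΦ, hΦ, ← conjA_conjA]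
    congr 1
    ext c
    simp only [coeff_trunc, coeff_conjA]
    split_ifs with hc
    · refine congrArg _ ?_
      have h1 := Subgroup.mem_centralizer_iff.1 hc (γ : G) γ.2
      calc _ = t⁻¹ * ((γ : G)⁻¹ * (c * (γ : G))) * t := by group
        _ = t⁻¹ * c * t := by rw [← h1]; group
    · rfl
  have hfix : ∀ t : G ⧸ Subgroup.centralizer ({x} : Set G),
      t ∈ MulAction.fixedPoints (Subgroup.zpowers x) _ →
      t ≠ QuotientGroup.mk 1 → t ≠ QuotientGroup.mk s → Φ t = 0 := by
    intro t ht ht1 hts
    obtain ⟨t, rfl⟩ := QuotientGroup.mk_surjective t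
    have hle : conjSub t⁻¹ (Subgroup.zpowers x) ≤ Subgroup.centralizer ({x} : Set G) := by
      intro c hc
      rw [mem_conjSub, inv_inv] at hc
      have h1 := ht ⟨_, hc⟩
      rw [show (⟨_, hc⟩ : Subgroup.zpowers x) •
        (QuotientGroup.mk t : G ⧸ Subgroup.centralizer ({x} : Set G)) =
        QuotientGroup.mk (t * c * t⁻¹ * t) from rfl, QuotientGroup.eq] at h1
      have h2 := Subgroup.inv_mem _ h1
      simpa [mul_assoc] using h2
    rw [hΦ]
    by_cases hC : conjSub t⁻¹ (Subgroup.zpowers x) = Subgroup.zpowers x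
    · -- inside the normalizer
      have hC' : conjSub t (Subgroup.zpowers x) = Subgroup.zpowers x := by
        conv_lhs => rw [← hC, conjSub_conjSub, mul_inv_cancel, conjSub_one]
      have hblk' : IsBlockIdem (Subgroup.centralizer ({x} : Set G)) (conjA t f) := by
        have := hblk.conj t
        rwa [hKC, ← centralizer_conjSub, hC', ← hKC] at this
      have hsupp : SuppIn (Subgroup.centralizer (Subgroup.zpowers x : Set G)) (conjA t y) := by
        have := (hyc.conj t).supp
        rwa [hKC, ← centralizer_conjSub, hC'] at this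
      rw [trunc_eq_self hsupp, hy, conjA_mul, conjA_single, mul_assoc]
      by_cases hfix : conjA t f = f
      · exfalso
        have hnorm := mem_normalizer_of_conjSub_eq hC'
        rcases h.stab_cyclic hM hP hno (Subgroup.mem_zpowers x) (sle_below hP.pair h.mem_x)
          (t := t) ⟨hnorm, hfix⟩ with h3 | h3
        · refine ht1 (QuotientGroup.eq.2 ?_)
          rw [mul_one]
          exact inv_mem (Subgroup.mem_centralizer_singleton_iff.2 (mul_inv_eq_iff_eq_mul.1 h3))
        · refine hts (QuotientGroup.eq.2 ?_)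
          rw [Subgroup.mem_centralizer_singleton_iff, ← mul_inv_eq_iff_eq_mul]
          have h4 : s * x⁻¹ * s⁻¹ = x := by
            rw [← inv_inv (s * x⁻¹ * s⁻¹)]
            rw [show (s * x⁻¹ * s⁻¹)⁻¹ = s * x * s⁻¹ by group, h.inv, inv_inv]
          have h5 : t⁻¹ * x⁻¹ * t = x := by
            calc t⁻¹ * x⁻¹ * t = t⁻¹ * (t * x * t⁻¹) * t := by rw [h3]
              _ = x := by group
          calc t⁻¹ * s * x * (t⁻¹ * s)⁻¹ = t⁻¹ * (s * x * s⁻¹) * t := by group
            _ = x := by rw [h.inv, h5]
      · rw [hblk'.mul_eq_zero hblk hfix, mul_zero]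
    · have h0 : trunc (conjSub t⁻¹ (Subgroup.zpowers x)) f = 0 := by
        by_contra hne
        obtain ⟨k, hk, hkle⟩ := hmax.max _ hle (h.isPGroup.map _) hne
        have heq : conjSub k (conjSub t⁻¹ (Subgroup.zpowers x)) = Subgroup.zpowers x :=
          Subgroup.eq_of_le_of_card_ge hkle (by rw [card_map_conj, card_map_conj])
        refine hC ?_
        have hkfix : conjSub k⁻¹ (Subgroup.zpowers x) = Subgroup.zpowers x :=
          conjSub_eq_of_mem_normalizer (inv_mem (Subgroup.centralizer_le_normalizer _ (hKC ▸ hk)))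
        calc conjSub t⁻¹ (Subgroup.zpowers x)
            = conjSub k⁻¹ (conjSub k (conjSub t⁻¹ (Subgroup.zpowers x))) := by
              rw [conjSub_conjSub k⁻¹, inv_mul_cancel, conjSub_one]
          _ = Subgroup.zpowers x := by rw [heq, hkfix]
      have h1 : trunc (conjSub t⁻¹ (Subgroup.zpowers x)) y = 0 := by
        rw [hy, trunc_mul (h.isPGroup.map _) ((h.inCenter_single_pow j).fixed.mono hle)
          (hblk.mem.fixed.mono hle), h0, mul_zero]
      have h2 : trunc (Subgroup.zpowers x) (conjA t y) =
          conjA t (trunc (conjSub t⁻¹ (Subgroup.zpowers x)) y) := by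
        rw [← trunc_conjA, conjSub_conjSub, mul_inv_cancel, conjSub_one]
      rw [h2, h1, conjA_zero, zero_mul]
  have h1ne : (QuotientGroup.mk 1 : G ⧸ Subgroup.centralizer ({x} : Set G)) ≠
      QuotientGroup.mk s := by
    intro h1
    rw [QuotientGroup.eq, inv_one, one_mul, Subgroup.mem_centralizer_singleton_iff] at h1
    have h2 : x⁻¹ = x := by rw [← h.inv, h1, mul_inv_cancel_right]
    have h3 := orderOf_le_of_pow_eq_one two_pos
      (show x ^ 2 = 1 by rw [sq]; nth_rewrite 1 [← h2]; exact inv_mul_cancel x)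
    have := h.order
    have := h.two_le
    omega
  have hmem1 : ∀ t : G, conjSub t (Subgroup.zpowers x) = Subgroup.zpowers x →
      (QuotientGroup.mk t : G ⧸ Subgroup.centralizer ({x} : Set G)) ∈
        MulAction.fixedPoints (Subgroup.zpowers x) _ := by
    intro t ht γ
    rw [show γ • (QuotientGroup.mk t : G ⧸ Subgroup.centralizer ({x} : Set G)) =
      QuotientGroup.mk ((γ : G) * t) from rfl, QuotientGroup.eq]
    have h1 : t⁻¹ * (γ : G) * t ∈ Subgroup.zpowers x :=
      mem_conjSub.1 (ht.symm ▸ γ.2 : (γ : G) ∈ conjSub t (Subgroup.zpowers x))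
    rw [show ((γ : G) * t)⁻¹ * t = (t⁻¹ * (γ : G) * t)⁻¹ by group]
    refine inv_mem ?_
    exact Subgroup.zpowers_le.2 (Subgroup.mem_centralizer_singleton_iff.2 rfl) h1
  have hs' : conjSub s (Subgroup.zpowers x) = Subgroup.zpowers x :=
    conjSub_eq_of_mem_normalizer (h.mem_normalizer_zpowers (Subgroup.mem_zpowers x) h.mem_s)
  have hkey : ∑ t, Φ t = Φ (QuotientGroup.mk 1) + Φ (QuotientGroup.mk s) := by
    refine MonoidAlgebra.ext (Finsupp.ext fun c => ?_)
    simp only [MonoidAlgebra.coeff_sum, Finsupp.finsetSum_apply, MonoidAlgebra.coeff_add,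
      Finsupp.add_apply]
    rw [CfsgLib.ModularCount.sum_eq_sum_fixed (p := 2) h.isPGroup (fun t => (Φ t).coeff c)
      (fun γ t => by rw [hinv]) (Finset.univ.filter fun t =>
        t ∈ MulAction.fixedPoints (Subgroup.zpowers x) _) (fun t => by simp),
      ← Finset.sum_pair (f := fun t => (Φ t).coeff c) h1ne]
    refine (Finset.sum_subset (fun t ht => ?_) fun t ht ht' => ?_).symm
    · rw [Finset.mem_filter]
      refine ⟨Finset.mem_univ _, ?_⟩
      rcases Finset.mem_insert.1 ht with rfl | ht
      · exact hmem1 1 (conjSub_one _)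
      · rw [Finset.mem_singleton.1 ht]
        exact hmem1 s hs'
    · rw [Finset.mem_insert, Finset.mem_singleton, not_or] at ht'
      rw [hfix t (Finset.mem_filter.1 ht).2 ht'.1 ht'.2]
      simp
  rw [hkey, hΦ, hΦ, conjA_one, hy, conjA_mul, conjA_single, conjA_s_below h hP, h.inv_pow,
    add_mul]
  have hsupp : ∀ g : G, g ∈ Subgroup.zpowers x →
      SuppIn (Subgroup.centralizer (Subgroup.zpowers x : Set G))
        (MonoidAlgebra.single g (1 : ResField M) * f) := by
    intro g hg
    rw [← hKC]
    refine (InCenter.supp (inCenter_single (Subgroup.zpowers_le.2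
      (Subgroup.mem_centralizer_singleton_iff.2 rfl) hg) fun k hk => ?_)).mul hblk.mem.supp
    exact (Subgroup.mem_centralizer_iff.1 (hKC ▸ hk : k ∈ Subgroup.centralizer
      (Subgroup.zpowers x : Set G)) g hg).symm
  rw [trunc_eq_self (hsupp _ (Subgroup.npow_mem_zpowers x j)),
    trunc_eq_self (hsupp _ (inv_mem (Subgroup.npow_mem_zpowers x j))),
    mul_assoc, mul_assoc, hblk.idem]

end CfsgLib.DihBlocks
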